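import Mathlib

/-!
Norms after extension of scalars to a topological field, and their approximation by global norms.
-/

set_option autoImplicit false
set_option maxHeartbeats 1000000

open scoped TensorProduct

namespace Groth.Agent.NormValH28

universe u v w

variable {k : Type u} [Field k] {K : Type v} [Field K] [Algebra k K] [FiniteDimensional k K]
  {L : Type w} [Field L] [Algebra k L] [Algebra K L] [IsScalarTower k K L] [FiniteDimensional k L]
  {F : Type*} [Field F] [Algebra k F]

/-- The linear extension of a functional. -/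
noncomputable def extFun (Λ : K →ₗ[k] k) : F ⊗[k] K →ₗ[F] F :=
  (TensorProduct.AlgebraTensorModule.rid k F F).toLinearMap ∘ₗ Λ.baseChange F

theorem extFun_tmul (Λ : K →ₗ[k] k) (c : F) (z : K) :
    extFun Λ (c ⊗ₜ[k] z) = algebraMap k F (Λ z) * c := by
  simp [extFun, Algebra.smul_def]

/-- A basis of the extended algebra, in which norms are compatible. -/
theorem exists_basis_baseChange :
    letI := (Algebra.TensorProduct.map (AlgHom.id k F) (IsScalarTower.toAlgHom k K L)).toRingHom.toAlgebra
    ∃ _bF : Module.Basis (Fin (Module.finrank K L)) (F ⊗[k] K) (F ⊗[k] L), ∀ X : L,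
      Algebra.norm (F ⊗[k] K) ((1 : F) ⊗ₜ[k] X) = (1 : F) ⊗ₜ[k] Algebra.norm K X := by
  classical
  letI alg : Algebra (F ⊗[k] K) (F ⊗[k] L) :=
    (Algebra.TensorProduct.map (AlgHom.id k F) (IsScalarTower.toAlgHom k K L)).toRingHom.toAlgebra
  have hmap : ∀ (c : F) (z : K), algebraMap (F ⊗[k] K) (F ⊗[k] L) (c ⊗ₜ[k] z) = c ⊗ₜ[k] algebraMap K L z :=
    fun c z => rfl
  have : IsScalarTower F (F ⊗[k] K) (F ⊗[k] L) := IsScalarTower.of_algebraMap_eq fun c => by
    rw [Algebra.TensorProduct.algebraMap_apply, Algebra.TensorProduct.algebraMap_apply, hmap, map_one]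
  have : FiniteDimensional K L := FiniteDimensional.right k K L
  let e := Module.finBasis K L
  let Ψ : (Fin (Module.finrank K L) → F ⊗[k] K) →ₗ[F ⊗[k] K] F ⊗[k] L :=
    Fintype.linearCombination (F ⊗[k] K) fun j => (1 : F) ⊗ₜ[k] e j
  have hΨ : ∀ (c : F) (z : Fin (Module.finrank K L) → K),
      Ψ (fun j => c ⊗ₜ[k] z j) = c ⊗ₜ[k] ∑ j, z j • e j := by
    intro c z
    rw [Fintype.linearCombination_apply, TensorProduct.tmul_sum]
    refine Finset.sum_congr rfl fun j _ => ?_
    rw [Algebra.smul_def, hmap, Algebra.TensorProduct.tmul_mul_tmul, mul_one, Algebra.smul_def]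
  have hsurj : Function.Surjective Ψ := by
    intro y
    induction y with
    | zero => exact ⟨0, map_zero _⟩
    | tmul c l => exact ⟨_, (hΨ c fun j => e.repr l j).trans (by rw [e.sum_repr])⟩
    | add a b ha hb =>
      obtain ⟨a, rfl⟩ := ha; obtain ⟨b, rfl⟩ := hb
      exact ⟨a + b, map_add _ _ _⟩
  have hinj : Function.Injective Ψ := by
    have h : Module.finrank F (Fin (Module.finrank K L) → F ⊗[k] K) = Module.finrank F (F ⊗[k] L) := by
      rw [Module.finrank_pi_fintype, Finset.sum_const, Finset.card_univ, Fintype.card_fin, smul_eq_mul,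
        Module.finrank_baseChange, Module.finrank_baseChange, mul_comm, Module.finrank_mul_finrank]
    exact (LinearMap.injective_iff_surjective_of_finrank_eq_finrank h (f := Ψ.restrictScalars F)).2 hsurj
  let bF : Module.Basis (Fin (Module.finrank K L)) (F ⊗[k] K) (F ⊗[k] L) :=
    Module.Basis.ofEquivFun (LinearEquiv.ofBijective Ψ ⟨hinj, hsurj⟩).symm
  have hbF : ∀ (c : F) (l : L), ⇑(bF.repr (c ⊗ₜ[k] l)) = fun j => c ⊗ₜ[k] e.repr l j := by
    intro c l
    have h := hΨ c fun j => e.repr l j
    rw [e.sum_repr] at h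
    rw [← h]
    exact (LinearEquiv.ofBijective Ψ ⟨hinj, hsurj⟩).symm_apply_apply _
  have hone : ∀ j, bF j = (1 : F) ⊗ₜ[k] e j := fun j => bF.repr.injective (DFunLike.coe_injective (by
    rw [hbF, bF.repr_self]
    funext i
    by_cases h : i = j
    · subst h; simp [Algebra.TensorProduct.one_def]
    · simp [Finsupp.single_eq_of_ne h]))
  have hnorm : ∀ X : L, Algebra.norm (F ⊗[k] K) ((1 : F) ⊗ₜ[k] X) = (1 : F) ⊗ₜ[k] Algebra.norm K X := by
    intro X
    rw [Algebra.norm_eq_matrix_det bF, Algebra.norm_eq_matrix_det e]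
    refine Eq.trans ?_ ((Algebra.TensorProduct.includeRight : K →ₐ[k] F ⊗[k] K).toRingHom.map_det _).symm
    congr 1
    ext i j
    simp [Algebra.leftMulMatrix_eq_repr_mul, hone, hbF, Algebra.TensorProduct.tmul_mul_tmul]
  exact ⟨bF, hnorm⟩

theorem exists_global_near [TopologicalSpace F] [IsTopologicalRing F] (hd : DenseRange (algebraMap k F))
    {κ : Type*} [Fintype κ] (Λ : κ → (K →ₗ[k] k)) (x : F ⊗[k] L) (U : Set (κ → F)) (hU : IsOpen U)
    (hxU : letI := (Algebra.TensorProduct.map (AlgHom.id k F) (IsScalarTower.toAlgHom k K L)).toRingHom.toAlgebra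
      (fun j => extFun (Λ j) (Algebra.norm (F ⊗[k] K) x)) ∈ U) :
    ∃ X : L, (fun j => algebraMap k F (Λ j (Algebra.norm K X))) ∈ U := by
  classical
  letI alg : Algebra (F ⊗[k] K) (F ⊗[k] L) :=
    (Algebra.TensorProduct.map (AlgHom.id k F) (IsScalarTower.toAlgHom k K L)).toRingHom.toAlgebra
  have hmap : ∀ (c : F) (z : K), algebraMap (F ⊗[k] K) (F ⊗[k] L) (c ⊗ₜ[k] z) = c ⊗ₜ[k] algebraMap K L z :=
    fun c z => rfl
  have : IsScalarTower F (F ⊗[k] K) (F ⊗[k] L) := IsScalarTower.of_algebraMap_eq fun c => by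
    rw [Algebra.TensorProduct.algebraMap_apply, Algebra.TensorProduct.algebraMap_apply, hmap, map_one]
  have : FiniteDimensional K L := FiniteDimensional.right k K L
  let ε := Module.finBasis k L
  obtain ⟨bF, hnorm⟩ := exists_basis_baseChange (k := k) (K := K) (L := L) (F := F)
  letI : TopologicalSpace (F ⊗[k] K) := moduleTopology F (F ⊗[k] K)
  have : IsModuleTopology F (F ⊗[k] K) := ⟨rfl⟩
  have : IsTopologicalRing (F ⊗[k] K) := IsModuleTopology.isTopologicalRing F (F ⊗[k] K)
  let bc := Algebra.TensorProduct.basis F ε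
  let P : (Fin (Module.finrank k L) → F) →ₗ[F] F ⊗[k] L := bc.equivFun.symm.toLinearMap
  let M : (Fin (Module.finrank k L) → F) →ₗ[F]
      Matrix (Fin (Module.finrank K L)) (Fin (Module.finrank K L)) (F ⊗[k] K) :=
    ((Algebra.leftMulMatrix bF).toLinearMap.restrictScalars F) ∘ₗ P
  have hM : Continuous fun c => M c := continuous_matrix fun i j =>
    IsModuleTopology.continuous_of_linearMap
      ((LinearMap.proj j ∘ₗ (LinearMap.proj i : (Fin (Module.finrank K L) → Fin (Module.finrank K L) → F ⊗[k] K) →ₗ[F] _)) ∘ₗ M)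
  have hdet : Continuous fun c => Algebra.norm (F ⊗[k] K) (P c) := by
    simp only [Algebra.norm_eq_matrix_det bF]
    exact hM.matrix_det
  have hcont : Continuous fun c => fun j => extFun (Λ j) (Algebra.norm (F ⊗[k] K) (P c)) :=
    continuous_pi fun j => (IsModuleTopology.continuous_of_linearMap (extFun (F := F) (Λ j))).comp hdet
  obtain ⟨q, hq⟩ := (DenseRange.piMap (fun _ : Fin (Module.finrank k L) => hd)).exists_mem_open
    (hU.preimage hcont) ⟨bc.equivFun x, by
      show (fun j => extFun (Λ j) (Algebra.norm (F ⊗[k] K) (bc.equivFun.symm (bc.equivFun x)))) ∈ U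
      rw [LinearEquiv.symm_apply_apply]
      exact hxU⟩
  refine ⟨∑ l, q l • ε l, ?_⟩
  have hP : P (Pi.map (fun _ => algebraMap k F) q) = (1 : F) ⊗ₜ[k] ∑ l, q l • ε l := by
    show bc.equivFun.symm _ = _
    rw [Module.Basis.equivFun_symm_apply, TensorProduct.tmul_sum]
    refine Finset.sum_congr rfl fun l _ => ?_
    simp [bc, TensorProduct.smul_tmul', Algebra.algebraMap_eq_smul_one, TensorProduct.tmul_smul]
  simp only [Set.mem_preimage] at hq
  rw [hP, hnorm] at hq
  simpa [extFun_tmul] using hq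

end Groth.Agent.NormValH28
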