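import Mathlib

/-!
Hensel's lemma in a complete ultrametric field, and its use in the completions of a number field.
-/

set_option autoImplicit false

open Polynomial

namespace Groth.Agent.NormValH28

universe u

section Normed

variable {F : Type u} [NormedField F] [IsUltrametricDist F] [CompleteSpace F]

/-- A simple root modulo the maximal ideal lifts. -/
theorem exists_root_of_norm_lt (f : F[X]) (hf : ∀ i, ‖f.coeff i‖ ≤ 1) (a : F) (ha : ‖a‖ ≤ 1)
    (h0 : ‖f.eval a‖ < 1) (h1 : ‖(derivative f).eval a‖ = 1) : ∃ r : F, f.eval r = 0 := by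
  let V := NormedField.valuation (K := F)
  let O := V.integer
  have hmem : ∀ x : F, x ∈ O ↔ ‖x‖ ≤ 1 := fun x => Iff.rfl
  have hcast : ∀ x : O, ‖(x : F)‖ ≤ 1 := fun x => (hmem _).1 x.2
  obtain ⟨g, hg⟩ : ∃ g : O[X], g.map O.subtype = f := by
    refine (lifts_iff_coeff_lifts f).2 fun i => ?_
    exact ⟨⟨f.coeff i, (hmem _).2 (hf i)⟩, rfl⟩
  have hev : ∀ x : O, f.eval (x : F) = ((g.eval x : O) : F) := fun x => by
    rw [← hg, eval_map]; exact eval₂_at_apply O.subtype x
  have hdev : ∀ x : O, (derivative f).eval (x : F) = (((derivative g).eval x : O) : F) := fun x => by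
    rw [← hg, derivative_map, eval_map]; exact eval₂_at_apply O.subtype x
  let δ := ‖f.eval a‖
  let P : ℕ → O → Prop := fun n x => ‖f.eval (x : F)‖ ≤ δ ^ (n + 1) ∧ ‖(derivative f).eval (x : F)‖ = 1
  have step : ∀ n x, P n x → ∃ y : O, P (n + 1) y ∧ ‖(y : F) - x‖ ≤ δ ^ (n + 1) := by
    rintro n x ⟨hx0, hx1⟩
    let h : F := -(f.eval (x : F)) / (derivative f).eval (x : F)
    have hnh : ‖h‖ = ‖f.eval (x : F)‖ := by simp [h, norm_div, hx1]
    have hδ1 : δ ^ (n + 1) ≤ 1 := pow_le_one₀ (norm_nonneg _) h0.le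
    have hhle : ‖h‖ ≤ 1 := hnh.trans_le (hx0.trans hδ1)
    let h' : O := ⟨h, (hmem _).2 hhle⟩
    obtain ⟨K, hK⟩ := binomExpansion g x h'
    obtain ⟨c, hc⟩ := sub_dvd_eval_sub (x + h') x (derivative g)
    refine ⟨x + h', ⟨?_, ?_⟩, ?_⟩
    · have e : f.eval ((x + h' : O) : F) = h ^ 2 * (K : F) := by
        rw [hev, hK]
        push_cast
        rw [← hev, ← hdev]
        show f.eval (x : F) + (derivative f).eval (x : F) * h + (K : F) * h ^ 2 = _
        have hne : (derivative f).eval (x : F) ≠ 0 := fun e => by simp [e] at hx1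
        simp only [h]
        field_simp
        ring
      rw [e, norm_mul, norm_pow, hnh]
      calc ‖f.eval (x : F)‖ ^ 2 * ‖(K : F)‖ ≤ ‖f.eval (x : F)‖ ^ 2 := mul_le_of_le_one_right (by positivity) (hcast K)
        _ ≤ (δ ^ (n + 1)) ^ 2 := pow_le_pow_left₀ (norm_nonneg _) hx0 2
        _ = δ ^ ((n + 1) * 2) := (pow_mul _ _ _).symm
        _ ≤ δ ^ (n + 1 + 1) := pow_le_pow_of_le_one (norm_nonneg _) h0.le (by omega)
    · have e : (derivative f).eval ((x + h' : O) : F) - (derivative f).eval (x : F) = h * (c : F) := by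
        rw [hdev, hdev, ← AddSubgroupClass.coe_sub, hc, add_sub_cancel_left]
        rfl
      have hlt : ‖h * (c : F)‖ < 1 := by
        rw [norm_mul, hnh]
        refine lt_of_le_of_lt (mul_le_of_le_one_right (norm_nonneg _) (hcast c)) (hx0.trans_lt ?_)
        exact pow_lt_one₀ (norm_nonneg _) h0 (by omega)
      rw [← sub_add_cancel ((derivative f).eval ((x + h' : O) : F)) ((derivative f).eval (x : F)), e,
        IsUltrametricDist.norm_add_eq_max_of_norm_ne_norm (by rw [hx1]; exact hlt.ne), hx1,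
        max_eq_right hlt.le]
    · have : ((x + h' : O) : F) - x = h := by push_cast; simp [h']
      rw [this, hnh]
      exact hx0
  let a' : O := ⟨a, (hmem _).2 ha⟩
  have base : P 0 a' := ⟨by simp [δ, a'], h1⟩
  choose! nxt hP hd using step
  let s : ℕ → O := fun n => Nat.rec a' (fun n x => nxt n x) n
  have hs : ∀ n, P n (s n) := fun n => by
    induction n with
    | zero => exact base
    | succ n ih => exact hP n _ ih
  let t : ℕ → F := fun n => Subtype.val (s n)
  have hds : ∀ n, dist (t n) (t (n + 1)) ≤ δ * δ ^ n := fun n => by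
    rw [dist_comm, dist_eq_norm, ← pow_succ']
    exact hd n _ (hs n)
  obtain ⟨r, hr⟩ := cauchySeq_tendsto_of_complete (cauchySeq_of_le_geometric δ δ h0 hds)
  refine ⟨r, ?_⟩
  have h2 : Filter.Tendsto (fun n => f.eval (t n)) Filter.atTop (nhds (f.eval r)) :=
    ((Polynomial.continuous f).tendsto r).comp hr
  have h3 : Filter.Tendsto (fun n => f.eval (t n)) Filter.atTop (nhds 0) := by
    refine squeeze_zero_norm (fun n => (hs n).1) ?_
    exact (tendsto_pow_atTop_nhds_zero_of_lt_one (norm_nonneg _) h0).comp (Filter.tendsto_add_atTop_nat 1)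
  exact tendsto_nhds_unique h2 h3

end Normed

end Groth.Agent.NormValH28
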