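import Mathlib
import Groth.Agent.Lib.StrongApproxH28.Lines
import Groth.Agent.Lib.NormValH28.Hensel

/-!
Norms from a finite extension of number fields: approximation, and prime divisors of norm values.
-/

set_option autoImplicit false

open Polynomial IsDedekindDomain NumberField
open WithZero (exp exp_log exp_zero exp_le_exp exp_pos exp_lt_exp)
open scoped WithZero TensorProduct

namespace Groth.Agent.NormValH28

universe u v

section Algebra

variable {k : Type u} [Field k] {L : Type v} [Field L] [Algebra k L] [FiniteDimensional k L]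

/-- The determinant of a linear combination of multiplication matrices. -/
noncomputable def detComb {F : Type*} [Field F] (φ : k →+* F) {ι : Type*} [Fintype ι]
    (e : ι → L) (c : ι → F) : F :=
  (∑ i, c i • (Algebra.leftMulMatrix (Module.finBasis k L) (e i)).map φ).det

theorem detComb_map {F : Type*} [Field F] (φ : k →+* F) {ι : Type*} [Fintype ι] (e : ι → L)
    (q : ι → k) : detComb φ e (fun i => φ (q i)) = φ (Algebra.norm k (∑ i, q i • e i)) := by
  rw [Algebra.norm_eq_matrix_det (Module.finBasis k L), RingHom.map_det, detComb]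
  congr 1
  ext r s
  simp [Matrix.sum_apply, map_sum, RingHom.mapMatrix_apply]

theorem continuous_detComb {F : Type*} [Field F] [TopologicalSpace F] [IsTopologicalRing F]
    (φ : k →+* F) {ι : Type*} [Fintype ι] (e : ι → L) : Continuous (detComb φ e) := by
  refine Continuous.matrix_det (continuous_matrix fun r s => ?_)
  simp only [Matrix.sum_apply, Matrix.smul_apply, smul_eq_mul]
  fun_prop

/-- Norms from a base change are values of `detComb`. -/
theorem exists_detComb_eq {F : Type*} [Field F] [Algebra k F] (x : F ⊗[k] L) :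
    ∃ c, detComb (algebraMap k F) (Module.finBasis k L) c = Algebra.norm F x := by
  classical
  let b := Module.finBasis k L
  let bF := Algebra.TensorProduct.basis F b
  refine ⟨bF.repr x, ?_⟩
  rw [Algebra.norm_eq_matrix_det bF]
  conv_rhs => rw [← bF.sum_repr x, map_sum]
  rw [detComb]
  congr 1
  refine Finset.sum_congr rfl fun i _ => ?_
  rw [map_smul]
  congr 1
  ext r s
  simp [bF, Algebra.leftMulMatrix_eq_repr_mul, Algebra.TensorProduct.tmul_mul_tmul,
    Algebra.TensorProduct.basis_repr_tmul, b]

theorem finite_nongen [Algebra.IsSeparable k L] (y θ : L)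
    (hθ : IntermediateField.adjoin k {θ} = ⊤) :
    {e : k | IntermediateField.adjoin k {y + e • θ} ≠ ⊤}.Finite := by
  have : Finite (IntermediateField k L) :=
    (Field.exists_primitive_element_iff_finite_intermediateField k L).1
      ⟨inferInstance, Field.exists_primitive_element k L⟩
  refine Set.Finite.of_finite_image (f := fun e => IntermediateField.adjoin k {y + e • θ})
    (Set.toFinite _) fun a ha b _ hab => ?_
  by_contra hne
  refine ha (eq_top_iff.2 (hθ ▸ ?_))
  rw [IntermediateField.adjoin_simple_le_iff]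
  have h1 : y + a • θ ∈ IntermediateField.adjoin k {y + a • θ} :=
    IntermediateField.mem_adjoin_simple_self k _
  have h2 : y + b • θ ∈ IntermediateField.adjoin k {y + a • θ} :=
    (show IntermediateField.adjoin k {y + b • θ} = IntermediateField.adjoin k {y + a • θ} from hab.symm) ▸
      IntermediateField.mem_adjoin_simple_self k (y + b • θ)
  have h3 := IntermediateField.smul_mem _ (sub_mem h1 h2) (x := (a - b)⁻¹)
  rwa [add_sub_add_left_eq_sub, ← sub_smul, inv_smul_smul₀ (sub_ne_zero.2 hne)] at h3

theorem exists_powerBasis {y : L} (hy : IntermediateField.adjoin k {y} = ⊤) :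
    ∃ pb : PowerBasis k L, pb.gen = y :=
  ⟨(IntermediateField.adjoin.powerBasis (Algebra.IsIntegral.isIntegral y)).map
    ((IntermediateField.equivOfEq hy).trans IntermediateField.topEquiv), rfl⟩

theorem adjoin_add_eq_top {y : L} (hy : IntermediateField.adjoin k {y} = ⊤) (c : k) :
    IntermediateField.adjoin k {y + algebraMap k L c} = ⊤ := by
  rw [eq_top_iff, ← hy, IntermediateField.adjoin_simple_le_iff]
  have := sub_mem (IntermediateField.mem_adjoin_simple_self k (y + algebraMap k L c))
    ((IntermediateField.adjoin k {y + algebraMap k L c}).algebraMap_mem c)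
  rwa [add_sub_cancel_right] at this

theorem norm_add_eq {y : L} (hy : IntermediateField.adjoin k {y} = ⊤) (c : k) :
    Algebra.norm k (y + algebraMap k L c) =
      (-1) ^ (minpoly k y).natDegree * (minpoly k y).eval (-c) := by
  obtain ⟨pb, hpb⟩ := exists_powerBasis (adjoin_add_eq_top hy c)
  rw [← hpb, Algebra.PowerBasis.norm_gen_eq_coeff_zero_minpoly, ← pb.natDegree_minpoly, hpb,
    minpoly.add_algebraMap, natDegree_comp, natDegree_X_sub_C, mul_one, coeff_zero_eq_eval_zero,
    eval_comp]
  simp

end Algebra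

section NumberField

variable {k : Type u} [Field k] [NumberField k]

local notation "O" => RingOfIntegers k
local notation "Pl" => HeightOneSpectrum (RingOfIntegers k)

theorem finite_valuation_gt_one (x : k) : {v : Pl | 1 < v.valuation k x}.Finite := by
  by_cases hx : x = 0
  · simp [hx]
  · exact (StrongApproxH28.finite_valuation_ne_one k hx).subset fun v hv => ne_of_gt hv

theorem finite_bad (p : k[X]) : {v : Pl | ∃ i, 1 < v.valuation k (p.coeff i)}.Finite := by
  refine (Set.Finite.biUnion p.support.finite_toSet fun i _ => finite_valuation_gt_one (p.coeff i)).subset ?_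
  rintro v ⟨i, hi⟩
  refine Set.mem_biUnion (mem_support_iff.2 fun h => ?_) hi
  simp [h] at hi

theorem val_eval_le_one (v : Pl) (p : k[X]) (hp : ∀ i, v.valuation k (p.coeff i) ≤ 1) {c : k}
    (hc : v.valuation k c ≤ 1) : v.valuation k (p.eval c) ≤ 1 := by
  rw [eval_eq_sum_range]
  refine Valuation.map_sum_le _ fun i _ => ?_
  rw [map_mul, map_pow]
  exact mul_le_one' (hp i) (pow_le_one' hc i)

theorem val_eval_monic (v : Pl) (p : k[X]) (hm : p.Monic)
    (hp : ∀ i, v.valuation k (p.coeff i) ≤ 1) {c : k}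
    (hc : 1 < v.valuation k c) : v.valuation k (p.eval c) = v.valuation k c ^ p.natDegree := by
  rw [eval_eq_sum_range, Finset.sum_range_succ, hm.coeff_natDegree, one_mul]
  have h1 : v.valuation k (∑ i ∈ Finset.range p.natDegree, p.coeff i * c ^ i) <
      v.valuation k (c ^ p.natDegree) := by
    refine Valuation.map_sum_lt' _ ?_ fun i hi => ?_
    · rw [map_pow]; exact pow_pos (zero_lt_one.trans hc) _
    · rw [map_mul, map_pow, map_pow]
      refine lt_of_le_of_lt (mul_le_of_le_one_left' (hp i)) ?_
      exact pow_lt_pow_right₀ hc (Finset.mem_range.1 hi)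
  rw [Valuation.map_add_eq_of_lt_right _ h1, map_pow]

theorem exists_root_completion (v : Pl) (f : k[X]) (hf : ∀ i, v.valuation k (f.coeff i) ≤ 1) (a : k)
    (ha : v.valuation k a ≤ 1) (h0 : v.valuation k (f.eval a) < 1)
    (h1 : v.valuation k ((derivative f).eval a) = 1) :
    ∃ r : v.adicCompletion k, (f.map (algebraMap k (v.adicCompletion k))).eval r = 0 := by
  have hle : ∀ x : k, v.valuation k x ≤ 1 → ‖algebraMap k (v.adicCompletion k) x‖ ≤ 1 := fun x hx =>
    Valued.toNormedField.norm_le_one_iff.2 (by rwa [StrongApproxH28.valued_algebraMap])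
  refine exists_root_of_norm_lt (f.map (algebraMap k (v.adicCompletion k)))
    (fun i => by rw [coeff_map]; exact hle _ (hf i))
    (algebraMap k (v.adicCompletion k) a) (hle a ha) ?_ ?_
  · rw [eval_map, eval₂_at_apply]
    refine Valued.toNormedField.norm_lt_one_iff.2 ?_
    rwa [StrongApproxH28.valued_algebraMap]
  · rw [derivative_map, eval_map, eval₂_at_apply]
    refine le_antisymm (hle _ h1.le) (not_lt.1 fun h => ?_)
    have := Valued.toNormedField.norm_lt_one_iff.1 h
    rw [StrongApproxH28.valued_algebraMap, h1] at this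
    exact lt_irrefl _ this

variable {L : Type v} [Field L] [Algebra k L] [FiniteDimensional k L] [Algebra.IsSeparable k L]

/-- Outside finitely many places, prime divisors of `N(y + c)` have a place of degree one. -/
theorem exists_bad {y : L} (hy : IntermediateField.adjoin k {y} = ⊤) :
    ∃ B : Finset Pl, ∀ v : Pl, v ∉ B → ∀ c : k,
      (1 < v.valuation k c → v.valuation k (Algebra.norm k (y + algebraMap k L c)) =
        v.valuation k c ^ (minpoly k y).natDegree) ∧
      (v.valuation k c ≤ 1 → v.valuation k (Algebra.norm k (y + algebraMap k L c)) ≤ 1 ∧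
        (v.valuation k (Algebra.norm k (y + algebraMap k L c)) = 1 ∨
          Nonempty (L →ₐ[k] v.adicCompletion k))) := by
  classical
  let f := minpoly k y
  have hint : IsIntegral k y := Algebra.IsIntegral.isIntegral y
  obtain ⟨P, Q, hPQ⟩ := Algebra.IsSeparable.isSeparable k y
  let S : Set Pl := {v | ∃ i, 1 < v.valuation k (f.coeff i)} ∪
    ({v | ∃ i, 1 < v.valuation k (P.coeff i)} ∪ {v | ∃ i, 1 < v.valuation k (Q.coeff i)})
  have hS : S.Finite := (finite_bad f).union ((finite_bad P).union (finite_bad Q))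
  refine ⟨hS.toFinset, fun v hv c => ?_⟩
  simp only [Set.Finite.mem_toFinset, S, Set.mem_union, Set.mem_ofPred_eq, not_or, not_exists, not_lt] at hv
  obtain ⟨hf, hP, hQ⟩ := hv
  have hval : v.valuation k (Algebra.norm k (y + algebraMap k L c)) = v.valuation k (f.eval (-c)) := by
    rw [norm_add_eq hy, map_mul, map_pow, Valuation.map_neg, map_one, one_pow, one_mul]
  refine ⟨fun hc => ?_, fun hc => ?_⟩
  · rw [hval, val_eval_monic v f (minpoly.monic hint) hf (by rwa [Valuation.map_neg]), Valuation.map_neg]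
  · have hc' : v.valuation k (-c) ≤ 1 := by rwa [Valuation.map_neg]
    rw [hval]
    have hfle := val_eval_le_one v f hf hc'
    refine ⟨hfle, ?_⟩
    by_cases h0 : v.valuation k (f.eval (-c)) = 1
    · exact Or.inl h0
    right
    have hd : ∀ i, v.valuation k ((derivative f).coeff i) ≤ 1 := fun i => by
      rw [coeff_derivative, map_mul]
      refine mul_le_one' (hf _) ?_
      have := v.valuation_le_one (K := k) ((i : O) + 1)
      simpa using this
    have h1 : v.valuation k ((derivative f).eval (-c)) = 1 := by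
      refine le_antisymm (val_eval_le_one v _ hd hc') (not_lt.1 fun h => ?_)
      have he : (P.eval (-c)) * f.eval (-c) + Q.eval (-c) * (derivative f).eval (-c) = 1 := by
        rw [← eval_mul, ← eval_mul, ← eval_add, hPQ, eval_one]
      have hlt : v.valuation k (P.eval (-c) * f.eval (-c) + Q.eval (-c) * (derivative f).eval (-c)) < 1 := by
        refine (Valuation.map_add _ _ _).trans_lt (max_lt ?_ ?_)
        · rw [map_mul]
          exact (mul_le_of_le_one_left' (val_eval_le_one v P hP hc')).trans_lt (lt_of_le_of_ne hfle h0)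
        · rw [map_mul]
          exact (mul_le_of_le_one_left' (val_eval_le_one v Q hQ hc')).trans_lt h
      rw [he, map_one] at hlt
      exact lt_irrefl _ hlt
    obtain ⟨r, hr⟩ := exists_root_completion v f hf (-c) hc' (lt_of_le_of_ne hfle h0) h1
    obtain ⟨pb, hpb⟩ := exists_powerBasis hy
    refine ⟨pb.lift r ?_⟩
    rw [hpb, aeval_def, ← eval_map]
    exact hr

theorem infinite_place : Infinite Pl := by
  refine ⟨fun hfin => ?_⟩
  classical
  have : Fintype Pl := Fintype.ofFinite Pl
  let c := Finset.univ.sup fun v : Pl => Ideal.absNorm v.asIdeal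
  obtain ⟨p, hcp, hp⟩ := Nat.exists_infinite_primes (c + 1)
  have hI : Ideal.span {(p : O)} ≠ ⊤ := fun h => by
    have h1 : Ideal.absNorm (Ideal.span {(p : O)}) = 1 := by rw [h, Ideal.absNorm_top]
    rw [Ideal.absNorm_span_singleton, ← map_natCast (algebraMap ℤ O), Algebra.norm_algebraMap,
      Int.natAbs_pow, Int.natAbs_natCast] at h1
    exact hp.ne_one ((pow_eq_one_iff.1 h1).resolve_right Module.finrank_pos.ne')
  obtain ⟨m, hm, hle⟩ := Ideal.exists_le_maximal _ hI
  have hm0 : m ≠ ⊥ := fun h => by
    rw [h, le_bot_iff, Ideal.span_singleton_eq_bot, Nat.cast_eq_zero] at hle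
    exact hp.ne_zero hle
  let v : Pl := ⟨m, hm.isPrime, hm0⟩
  have h1 : Ideal.absNorm v.asIdeal ≤ c := Finset.le_sup (f := fun v : Pl => Ideal.absNorm v.asIdeal) (Finset.mem_univ v)
  obtain ⟨j, hj, hje⟩ := (Nat.dvd_prime_pow hp).1 (show Ideal.absNorm v.asIdeal ∣ p ^ Module.finrank ℤ O from by
    have h2 := Ideal.absNorm_dvd_absNorm_of_le hle
    rwa [Ideal.absNorm_span_singleton, ← map_natCast (algebraMap ℤ O), Algebra.norm_algebraMap,
      Int.natAbs_pow, Int.natAbs_natCast] at h2)
  have hj0 : j ≠ 0 := fun h => by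
    rw [h, pow_zero, Ideal.absNorm_eq_one_iff] at hje
    exact hm.ne_top hje
  have := Nat.le_self_pow hj0 p
  omega

theorem exists_place_notMem (F : Finset Pl) : ∃ v : Pl, v ∉ F :=
  have := infinite_place (k := k)
  Infinite.exists_notMem_finset F

theorem isOpen_val_eq_one (v : Pl) : IsOpen {x : v.adicCompletion k | Valued.v x = 1} := by
  have h : {x : v.adicCompletion k | Valued.v x = 1} = {x | ‖x‖ = 1} := by
    ext x
    simp only [Set.mem_ofPred_eq]
    rw [le_antisymm_iff, le_antisymm_iff (a := ‖x‖), Valued.toNormedField.norm_le_one_iff,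
      Valued.toNormedField.one_le_norm_iff]
  rw [h]
  have := IsUltrametricDist.isOpen_sphere (0 : v.adicCompletion k) one_ne_zero
  simpa [Metric.sphere, dist_eq_norm] using this

theorem isOpen_val_sub_lt_one (v : Pl) (q : v.adicCompletion k) :
    IsOpen {x : v.adicCompletion k | Valued.v (x - q) < 1} := by
  have h : {x : v.adicCompletion k | Valued.v (x - q) < 1} = Metric.ball q 1 := by
    ext x
    simp only [Set.mem_ofPred_eq, Metric.mem_ball, dist_eq_norm]
    exact Valued.toNormedField.norm_lt_one_iff.symm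
  rw [h]
  exact Metric.isOpen_ball

/-- Approximation of tuples at finitely many finite places and all infinite places, integral
outside one further place. -/
theorem approx_tuple {n : ℕ} (v₀ : Pl) (F : Finset Pl) (hv₀ : v₀ ∉ F)
    (Uf : (v : Pl) → Set (Fin n → v.adicCompletion k)) (hUf : ∀ v ∈ F, IsOpen (Uf v) ∧ (Uf v).Nonempty)
    (Ui : (w : InfinitePlace k) → Set (Fin n → w.Completion))
    (hUi : ∀ w, IsOpen (Ui w) ∧ (Ui w).Nonempty) :
    ∃ q : Fin n → k, (∀ v : Pl, v ∉ F → v ≠ v₀ → ∀ i, v.valuation k (q i) ≤ 1) ∧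
      (∀ v ∈ F, (fun i => algebraMap k (v.adicCompletion k) (q i)) ∈ Uf v) ∧
      ∀ w, (fun i => algebraMap k w.Completion (q i)) ∈ Ui w := by
  classical
  have hv : ∀ v : Pl, ∃ q : Fin n → k, ∃ N : ℕ, v ∈ F →
      ∀ a : Fin n → k, (∀ i, v.valuation k (a i - q i) ≤ exp (-(N : ℤ))) →
        (fun i => algebraMap k (v.adicCompletion k) (a i)) ∈ Uf v := by
    intro v
    by_cases h : v ∈ F
    · obtain ⟨x, hx⟩ := (hUf v h).2
      obtain ⟨q, N, -, -, hq⟩ := StrongApproxH28.exists_center_pi v _ (hUf v h).1 x hx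
      exact ⟨q, N, fun _ => hq⟩
    · exact ⟨0, 0, fun h' => absurd h' h⟩
  choose t N hN using hv
  choose x hx using fun w => (hUi w).2
  have hbox : ∀ w, ∃ s : Fin n → Set w.Completion, (∀ i, IsOpen (s i) ∧ x w i ∈ s i) ∧
      Set.univ.pi s ⊆ Ui w := fun w => isOpen_pi_iff'.1 (hUi w).1 _ (hx w)
  choose s hs hsU using hbox
  have hT : ∀ i, ∃ T : k, ∀ w, algebraMap k w.Completion T ∈ s w i := by
    intro i
    obtain ⟨T, hT⟩ := (InfiniteAdeleRing.denseRange_algebraMap k).exists_mem_open
      (s := Set.univ.pi fun w => s w i)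
      (isOpen_set_pi Set.finite_univ fun w _ => (hs w i).1)
      ⟨fun w => x w i, fun w _ => (hs w i).2⟩
    exact ⟨T, fun w => hT w (Set.mem_univ w)⟩
  choose T hT using hT
  have hε : ∀ w i, ∃ ε : ℝ, 0 < ε ∧ Metric.ball (algebraMap k w.Completion (T i)) ε ⊆ s w i :=
    fun w i => Metric.isOpen_iff.1 (hs w i).1 _ (hT i w)
  choose ε hε0 hεs using hε
  have happ : ∀ i, ∃ a : k, (∀ v : Pl, v ∉ F → v ≠ v₀ → v.valuation k a ≤ 1) ∧
      (∀ v ∈ F, v.valuation k (a - t v i) ≤ exp (-((F.sup N : ℕ) : ℤ))) ∧
      ∀ w : InfinitePlace k, w (a - T i) < Finset.univ.inf' Finset.univ_nonempty (fun w => ε w i) :=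
    fun i => StrongApproxH28.strong_approx v₀ F hv₀ (fun v => t v i) _ (T i) _
      ((Finset.lt_inf'_iff _).2 fun w _ => hε0 w i)
  choose q h1 h2 h3 using happ
  refine ⟨q, fun v hv hv' i => h1 i v hv hv', fun v hv => hN v hv q fun i => (h2 i v hv).trans ?_,
    fun w => hsU w fun i _ => hεs w i ?_⟩
  · exact exp_le_exp.2 (by have := Finset.le_sup (f := N) hv; omega)
  · rw [Metric.mem_ball, dist_eq_norm, ← map_sub]
    have := (h3 i w).trans_le (Finset.inf'_le (fun w => ε w i) (Finset.mem_univ w))
    refine lt_of_eq_of_lt ?_ this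
    exact InfinitePlace.Completion.norm_coe w _

/-- The one-variable case, avoiding a finite set. -/
theorem approx_one (v₀ : Pl) (F : Finset Pl) (hv₀ : v₀ ∉ F)
    (Uf : (v : Pl) → Set (v.adicCompletion k)) (hUf : ∀ v ∈ F, IsOpen (Uf v) ∧ (Uf v).Nonempty)
    (Ui : (w : InfinitePlace k) → Set w.Completion)
    (hUi : ∀ w, IsOpen (Ui w) ∧ (Ui w).Nonempty) (bad : Set k) (hbad : bad.Finite) :
    ∃ a : k, a ∉ bad ∧ (∀ v : Pl, v ∉ F → v ≠ v₀ → v.valuation k a ≤ 1) ∧
      (∀ v ∈ F, algebraMap k (v.adicCompletion k) a ∈ Uf v) ∧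
      ∀ w, algebraMap k w.Completion a ∈ Ui w := by
  classical
  obtain ⟨v₁, hv₁⟩ := exists_place_notMem (insert v₀ F)
  simp only [Finset.mem_insert, not_or] at hv₁
  let badSet := algebraMap k (v₁.adicCompletion k) '' bad
  have hbo : IsOpen ({x : v₁.adicCompletion k | Valued.v (x - 0) < 1} \ badSet) :=
    (isOpen_val_sub_lt_one v₁ 0).sdiff (hbad.image _).isClosed
  obtain ⟨π, hπ⟩ := v₁.valuation_exists_uniformizer k
  have hπ0 : π ≠ 0 := fun h => by rw [h, map_zero] at hπ; exact WithZero.exp_ne_zero hπ.symm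
  have hπ1 : v₁.valuation k π < 1 := by rw [hπ, ← exp_zero, exp_lt_exp]; norm_num
  have hne : ({x : v₁.adicCompletion k | Valued.v (x - 0) < 1} \ badSet).Nonempty := by
    have hinj : Function.Injective fun j : ℕ => π ^ (j + 1) := by
      intro i j hij
      have h := congrArg (v₁.valuation k) hij
      simp only [map_pow, hπ, ← WithZero.exp_nsmul, WithZero.exp_inj, nsmul_eq_mul] at h
      omega
    obtain ⟨j, hj⟩ := ((hbad.preimage hinj.injOn).infinite_compl).nonempty
    refine ⟨algebraMap k _ (π ^ (j + 1)), ?_, fun h => hj ?_⟩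
    · rw [Set.mem_ofPred_eq, sub_zero, StrongApproxH28.valued_algebraMap, map_pow]
      exact pow_lt_one₀ zero_le hπ1 (Nat.succ_ne_zero j)
    · obtain ⟨b, hb, hbe⟩ := h
      show π ^ (j + 1) ∈ bad
      rwa [← (algebraMap k (v₁.adicCompletion k)).injective hbe]
  let Uf' : (v : Pl) → Set (Fin 1 → v.adicCompletion k) := fun v =>
    if h : v = v₁ then h ▸ ((fun x : Fin 1 → v₁.adicCompletion k => x 0) ⁻¹'
      ({x : v₁.adicCompletion k | Valued.v (x - 0) < 1} \ badSet))
    else (fun x => x 0) ⁻¹' Uf v
  obtain ⟨q, hq1, hq2, hq3⟩ := approx_tuple v₀ (insert v₁ F)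
    (by simp only [Finset.mem_insert, not_or]; exact ⟨Ne.symm hv₁.1, hv₀⟩) Uf'
    (fun v hv => by
      by_cases h : v = v₁
      · subst h
        simp only [Uf', dif_pos]
        exact ⟨hbo.preimage (continuous_apply 0), ⟨fun _ => hne.some, hne.some_mem⟩⟩
      · simp only [Uf', dif_neg h]
        have := hUf v ((Finset.mem_insert.1 hv).resolve_left h)
        exact ⟨this.1.preimage (continuous_apply 0), ⟨fun _ => this.2.some, this.2.some_mem⟩⟩)
    (fun w => (fun x : Fin 1 → w.Completion => x 0) ⁻¹' Ui w)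
    (fun w => ⟨(hUi w).1.preimage (continuous_apply 0), ⟨fun _ => (hUi w).2.some, (hUi w).2.some_mem⟩⟩)
  have h1 := hq2 v₁ (Finset.mem_insert_self _ _)
  simp only [Uf', dif_pos] at h1
  refine ⟨q 0, fun h => h1.2 ⟨_, h, rfl⟩, fun v hv hv' => ?_, fun v hv => ?_, fun w => hq3 w⟩
  · by_cases h : v = v₁
    · subst h
      have := h1.1
      simp only [Set.mem_ofPred_eq, sub_zero, StrongApproxH28.valued_algebraMap] at this
      exact this.le
    · exact hq1 v (by simp [hv, h]) hv' 0
  · have h2 := hq2 v (Finset.mem_insert_of_mem hv)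
    have hne' : v ≠ v₁ := fun h => hv₁.2 (h ▸ hv)
    simp only [Uf', dif_neg hne'] at h2
    exact h2

end NumberField

end Groth.Agent.NormValH28
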