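import Mathlib
import Groth.Agent.Lib.NormValH28.Basic

/-!
Elements close to prescribed local norms whose remaining prime divisors have places of degree one.
-/

set_option autoImplicit false
set_option maxHeartbeats 1000000

open Polynomial IsDedekindDomain NumberField
open scoped WithZero TensorProduct

namespace Groth.Agent.NormValH28

universe u v

variable {k : Type u} [Field k] [NumberField k] {L : Type v} [Field L] [Algebra k L]
  [FiniteDimensional k L] [Algebra.IsSeparable k L]

local notation "O" => RingOfIntegers k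
local notation "Pl" => HeightOneSpectrum (RingOfIntegers k)

theorem natDegree_eq {y : L} (hy : IntermediateField.adjoin k {y} = ⊤) :
    (minpoly k y).natDegree = Module.finrank k L := by
  obtain ⟨pb, hpb⟩ := exists_powerBasis hy
  rw [← hpb, pb.natDegree_minpoly, pb.finrank]

theorem norm_smul_add {y : L} {a : k} (ha : a ≠ 0) (b : k) :
    Algebra.norm k (a • y + algebraMap k L b) =
      a ^ Module.finrank k L * Algebra.norm k (y + algebraMap k L (b / a)) := by
  rw [← Algebra.norm_algebraMap, ← map_mul, mul_add, ← map_mul, mul_div_cancel₀ _ ha, Algebra.smul_def]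

theorem detComb_pair {F : Type*} [Field F] (φ : k →+* F) (y : L) (a b : k) :
    detComb φ ![y, 1] ![φ a, φ b] = φ (Algebra.norm k (a • y + algebraMap k L b)) := by
  have h := detComb_map φ ![y, 1] ![a, b]
  have he : (fun i => φ (![a, b] i)) = ![φ a, φ b] := by
    funext i; fin_cases i <;> rfl
  rw [he] at h
  rw [h, Fin.sum_univ_two, Matrix.cons_val_zero, Matrix.cons_val_zero, Matrix.cons_val_one,
    Matrix.cons_val_one, Matrix.cons_val_zero, Matrix.cons_val_zero, Algebra.algebraMap_eq_smul_one]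

theorem continuous_pair_fst {F : Type*} [Field F] [TopologicalSpace F] [IsTopologicalRing F]
    (φ : k →+* F) (y : L) (b : F) : Continuous fun x : F => detComb φ ![y, 1] ![x, b] := by
  refine (continuous_detComb φ _).comp (continuous_pi fun i => ?_)
  fin_cases i <;> simp <;> fun_prop

theorem continuous_pair_snd {F : Type*} [Field F] [TopologicalSpace F] [IsTopologicalRing F]
    (φ : k →+* F) (y : L) (a : F) : Continuous fun x : F => detComb φ ![y, 1] ![a, x] := by
  refine (continuous_detComb φ _).comp (continuous_pi fun i => ?_)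
  fin_cases i <;> simp <;> fun_prop

/-- A generator with norm in prescribed open sets. -/
theorem exists_generator (F : Finset Pl)
    (Uf : (v : Pl) → Set (v.adicCompletion k))
    (hUf : ∀ v ∈ F, IsOpen (Uf v) ∧ ∃ x : (v.adicCompletion k) ⊗[k] L,
      Algebra.norm (v.adicCompletion k) x ∈ Uf v)
    (Ui : (w : InfinitePlace k) → Set w.Completion)
    (hUi : ∀ w, IsOpen (Ui w) ∧ ∃ x : w.Completion ⊗[k] L, Algebra.norm w.Completion x ∈ Ui w) :
    ∃ y : L, IntermediateField.adjoin k {y} = ⊤ ∧
      (∀ v ∈ F, algebraMap k (v.adicCompletion k) (Algebra.norm k y) ∈ Uf v) ∧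
      ∀ w, algebraMap k w.Completion (Algebra.norm k y) ∈ Ui w := by
  obtain ⟨v₀, hv₀⟩ := exists_place_notMem F
  let e := Module.finBasis k L
  obtain ⟨q, -, hq1, hq2⟩ := approx_tuple v₀ F hv₀
    (fun v => detComb (algebraMap k (v.adicCompletion k)) e ⁻¹' Uf v)
    (fun v hv => by
      obtain ⟨x, hx⟩ := (hUf v hv).2
      obtain ⟨c, hc⟩ := exists_detComb_eq x
      exact ⟨(hUf v hv).1.preimage (continuous_detComb _ _), ⟨c, by
        show detComb _ _ c ∈ Uf v
        rwa [hc]⟩⟩)
    (fun w => detComb (algebraMap k w.Completion) e ⁻¹' Ui w)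
    (fun w => by
      obtain ⟨x, hx⟩ := (hUi w).2
      obtain ⟨c, hc⟩ := exists_detComb_eq x
      exact ⟨(hUi w).1.preimage (continuous_detComb _ _), ⟨c, by
        show detComb _ _ c ∈ Ui w
        rwa [hc]⟩⟩)
  obtain ⟨θ, hθ⟩ := Field.exists_primitive_element k L
  let y₀ := ∑ i, q i • e i
  have hy₁ : ∀ v ∈ F, algebraMap k (v.adicCompletion k) (Algebra.norm k y₀) ∈ Uf v := fun v hv => by
    rw [← detComb_map]; exact hq1 v hv
  have hy₂ : ∀ w, algebraMap k w.Completion (Algebra.norm k y₀) ∈ Ui w := fun w => by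
    rw [← detComb_map]; exact hq2 w
  have hpair : ∀ {F' : Type u} [Field F'] (φ : k →+* F') (s : k),
      detComb φ ![θ, y₀] ![φ s, 1] = φ (Algebra.norm k (y₀ + s • θ)) := by
    intro F' _ φ s
    have h := detComb_map φ ![θ, y₀] ![s, 1]
    have he : (fun i => φ (![s, 1] i)) = ![φ s, 1] := by
      funext i; fin_cases i <;> simp
    rw [he] at h
    rw [h, Fin.sum_univ_two]
    simp [add_comm]
  have hcont : ∀ {F' : Type u} [Field F'] [TopologicalSpace F'] [IsTopologicalRing F'] (φ : k →+* F'),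
      Continuous fun x : F' => detComb φ ![θ, y₀] ![x, 1] := by
    intro F' _ _ _ φ
    refine (continuous_detComb φ _).comp (continuous_pi fun i => ?_)
    fin_cases i <;> simp <;> fun_prop
  obtain ⟨s, hs, -, hs1, hs2⟩ := approx_one v₀ F hv₀
    (fun v => (fun x => detComb (algebraMap k (v.adicCompletion k)) ![θ, y₀] ![x, 1]) ⁻¹' Uf v)
    (fun v hv => ⟨(hUf v hv).1.preimage (hcont _), ⟨algebraMap k _ 0, by
      show detComb _ _ _ ∈ Uf v
      rw [hpair, zero_smul, add_zero]
      exact hy₁ v hv⟩⟩)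
    (fun w => (fun x => detComb (algebraMap k w.Completion) ![θ, y₀] ![x, 1]) ⁻¹' Ui w)
    (fun w => ⟨(hUi w).1.preimage (hcont _), ⟨algebraMap k _ 0, by
      show detComb _ _ _ ∈ Ui w
      rw [hpair, zero_smul, add_zero]
      exact hy₂ w⟩⟩)
    _ (finite_nongen y₀ θ hθ)
  refine ⟨y₀ + s • θ, by simpa using hs, fun v hv => ?_, fun w => ?_⟩
  · rw [← hpair]; exact hs1 v hv
  · rw [← hpair]; exact hs2 w

theorem exists_nonzero_mem (v : Pl) (W : Set (v.adicCompletion k)) (hW : IsOpen W) (h0 : (0 : v.adicCompletion k) ∈ W) :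
    ∃ z, z ≠ 0 ∧ z ∈ W := by
  obtain ⟨π, hπ⟩ := v.valuation_exists_uniformizer k
  let p := algebraMap k (v.adicCompletion k) π
  have hp : Valued.v p < 1 := by
    rw [StrongApproxH28.valued_algebraMap, hπ, ← WithZero.exp_zero, WithZero.exp_lt_exp]; norm_num
  have hp0 : p ≠ 0 := (_root_.map_ne_zero _).2 fun h => by
    rw [h, map_zero] at hπ; exact WithZero.exp_ne_zero hπ.symm
  have ht := tendsto_pow_atTop_nhds_zero_of_norm_lt_one (x := p) (Valued.toNormedField.norm_lt_one_iff.2 hp)
  obtain ⟨N, hN⟩ := Filter.mem_atTop_sets.1 (ht (hW.mem_nhds h0))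
  exact ⟨p ^ N, pow_ne_zero _ hp0, hN N le_rfl⟩

/-- Away from `v₀` the element can be chosen integral. -/
theorem exists_integral (Sf : Finset Pl) (Si : Finset (InfinitePlace k))
    (Uf : (v : Pl) → Set (v.adicCompletion k))
    (hUf : ∀ v ∈ Sf, IsOpen (Uf v) ∧ ∃ x : (v.adicCompletion k) ⊗[k] L,
      Algebra.norm (v.adicCompletion k) x ∈ Uf v)
    (Ui : (w : InfinitePlace k) → Set w.Completion)
    (hUi : ∀ w ∈ Si, IsOpen (Ui w) ∧ ∃ x : w.Completion ⊗[k] L, Algebra.norm w.Completion x ∈ Ui w)
    (v₀ : Pl) (hv₀ : v₀ ∉ Sf) (hL : Nonempty (L →ₐ[k] v₀.adicCompletion k)) :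
    ∃ t : k, t ≠ 0 ∧ (∀ v ∈ Sf, algebraMap k (v.adicCompletion k) t ∈ Uf v) ∧
      (∀ w ∈ Si, algebraMap k w.Completion t ∈ Ui w) ∧
      (∀ v : Pl, v ∉ Sf → v ≠ v₀ → v.valuation k t ≤ 1) ∧
      ∀ v : Pl, v ∉ Sf → v.valuation k t = 1 ∨ Nonempty (L →ₐ[k] v.adicCompletion k) := by
  classical
  let Ui' : (w : InfinitePlace k) → Set w.Completion := fun w => if w ∈ Si then Ui w else Set.univ
  have hUi' : ∀ w, IsOpen (Ui' w) ∧ ∃ x : w.Completion ⊗[k] L, Algebra.norm w.Completion x ∈ Ui' w := by
    intro w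
    by_cases h : w ∈ Si
    · simp only [Ui', if_pos h]; exact hUi w h
    · simp only [Ui', if_neg h]; exact ⟨isOpen_univ, 1, trivial⟩
  obtain ⟨y, hy, hy1, hy2⟩ := exists_generator Sf Uf hUf Ui' hUi'
  obtain ⟨B, hB⟩ := exists_bad hy
  let n := Module.finrank k L
  let F₁ := Sf ∪ B.erase v₀
  have hv₁ : v₀ ∉ F₁ := by simp [F₁, hv₀]
  have hmemB : ∀ v, v ∈ B → v ∉ Sf → v ≠ v₀ → v ∈ F₁ := fun v h _ h' => by simp [F₁, h, h']
  let Af : (v : Pl) → Set (v.adicCompletion k) := fun v => if v ∈ Sf
    then (fun x => x ^ n * algebraMap k (v.adicCompletion k) (Algebra.norm k y)) ⁻¹' Uf v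
    else {x | Valued.v (x - 0) < 1} ∩
      (fun x => detComb (algebraMap k (v.adicCompletion k)) ![y, 1] ![x, 1]) ⁻¹' {z | Valued.v z = 1}
  obtain ⟨a, ha0, ha1, ha2, ha3⟩ := approx_one v₀ F₁ hv₁ Af (fun v _ => by
      by_cases h : v ∈ Sf
      · simp only [Af, if_pos h]
        exact ⟨(hUf v h).1.preimage ((continuous_pow n).mul continuous_const), ⟨1, by simpa using hy1 v h⟩⟩
      · simp only [Af, if_neg h]
        refine ⟨(isOpen_val_sub_lt_one v 0).inter ((isOpen_val_eq_one v).preimage
          (continuous_pair_fst _ _ _)), ⟨0, by simp, ?_⟩⟩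
        show Valued.v (detComb _ _ _) = 1
        rw [← map_zero (algebraMap k (v.adicCompletion k)), ← map_one (algebraMap k (v.adicCompletion k)),
          detComb_pair, zero_smul, zero_add, map_one, map_one, map_one, map_one])
    (fun w => (fun x => x ^ n * algebraMap k w.Completion (Algebra.norm k y)) ⁻¹' Ui' w)
    (fun w => ⟨(hUi' w).1.preimage ((continuous_pow n).mul continuous_const), ⟨1, by simpa using hy2 w⟩⟩)
    {0} (Set.finite_singleton _)
  have ha : a ≠ 0 := by simpa using ha0
  have hfin := StrongApproxH28.finite_valuation_ne_one k ha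
  let P := hfin.toFinset.filter fun v => v ∉ F₁ ∧ v ≠ v₀
  let F₂ := F₁ ∪ P
  have hv₂ : v₀ ∉ F₂ := by simp [F₂, P, hv₁]
  let Bf : (v : Pl) → Set (v.adicCompletion k) := fun v => if v ∈ Sf
    then (fun x => detComb (algebraMap k (v.adicCompletion k)) ![y, 1]
      ![algebraMap k (v.adicCompletion k) a, x]) ⁻¹' Uf v
    else if v ∈ F₁ then {x | Valued.v (x - 1) < 1} ∩ (fun x => detComb (algebraMap k (v.adicCompletion k)) ![y, 1]
      ![algebraMap k (v.adicCompletion k) a, x]) ⁻¹' {z | Valued.v z = 1}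
    else {x | Valued.v (x - 1) < 1}
  obtain ⟨b, hb0, hb1, hb2, hb3⟩ := approx_one v₀ F₂ hv₂ Bf (fun v hv => by
      by_cases h : v ∈ Sf
      · simp only [Bf, if_pos h]
        refine ⟨(hUf v h).1.preimage (continuous_pair_snd _ _ _), ⟨algebraMap k _ 0, ?_⟩⟩
        show detComb _ _ _ ∈ Uf v
        rw [detComb_pair, norm_smul_add ha, zero_div, map_zero, add_zero, map_mul, map_pow]
        have := ha2 v (Finset.mem_union_left _ h)
        simp only [Af, if_pos h] at this
        exact this
      · by_cases h' : v ∈ F₁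
        · simp only [Bf, if_neg h, if_pos h']
          refine ⟨(isOpen_val_sub_lt_one v 1).inter ((isOpen_val_eq_one v).preimage
            (continuous_pair_snd _ _ _)), ⟨1, by simp, ?_⟩⟩
          have := ha2 v h'
          simp only [Af, if_neg h] at this
          exact this.2
        · simp only [Bf, if_neg h, if_neg h']
          exact ⟨isOpen_val_sub_lt_one v 1, ⟨1, by simp⟩⟩)
    (fun w => (fun x => detComb (algebraMap k w.Completion) ![y, 1]
      ![algebraMap k w.Completion a, x]) ⁻¹' Ui' w)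
    (fun w => ⟨(hUi' w).1.preimage (continuous_pair_snd _ _ _), ⟨algebraMap k _ 0, by
      show detComb _ _ _ ∈ Ui' w
      rw [detComb_pair, norm_smul_add ha, zero_div, map_zero, add_zero, map_mul, map_pow]
      exact ha3 w⟩⟩)
    {b | a • y + algebraMap k L b = 0} (Set.Subsingleton.finite fun b hb b' hb' =>
      (algebraMap k L).injective (add_left_cancel (hb.trans hb'.symm)))
  let t := Algebra.norm k (a • y + algebraMap k L b)
  have main : ∀ v : Pl, v ∉ Sf → v ≠ v₀ → v.valuation k t ≤ 1 ∧
      (v.valuation k t = 1 ∨ Nonempty (L →ₐ[k] v.adicCompletion k)) := by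
    intro v hv hv'
    by_cases h1 : v ∈ F₁
    · have h := hb2 v (Finset.mem_union_left _ h1)
      simp only [Bf, if_neg hv, if_pos h1] at h
      have h2 : Valued.v (detComb (algebraMap k (v.adicCompletion k)) ![y, 1]
          ![algebraMap k _ a, algebraMap k _ b]) = 1 := h.2
      rw [detComb_pair, StrongApproxH28.valued_algebraMap] at h2
      exact ⟨h2.le, Or.inl h2⟩
    have hvB : v ∉ B := fun h => h1 (hmemB v h hv hv')
    have hale : v.valuation k a ≤ 1 := ha1 v h1 hv'
    have ht : v.valuation k t = v.valuation k a ^ n *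
        v.valuation k (Algebra.norm k (y + algebraMap k L (b / a))) := by
      rw [show t = _ from norm_smul_add ha b, map_mul, map_pow]
    have hva : v.valuation k a ≠ 0 := (Valuation.ne_zero_iff _).2 ha
    by_cases h3 : v.valuation k a = 1
    · have hble : v.valuation k b ≤ 1 := by
        refine hb1 v ?_ hv'
        simp [F₂, P, h1, h3]
      have hc : v.valuation k (b / a) ≤ 1 := by rwa [map_div₀, h3, div_one]
      rw [ht, h3, one_pow, one_mul]
      exact (hB v hvB (b / a)).2 hc
    · have hP : v ∈ F₂ := by simp [F₂, P, h1, h3, hv']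
      have h := hb2 v hP
      simp only [Bf, if_neg hv, if_neg h1, Set.mem_ofPred_eq] at h
      rw [← map_one (algebraMap k (v.adicCompletion k)), ← map_sub, StrongApproxH28.valued_algebraMap] at h
      have hvb : v.valuation k b = 1 := by
        rw [← sub_add_cancel b 1, Valuation.map_add_eq_of_lt_right _ (by rwa [map_one]), map_one]
      have halt : v.valuation k a < 1 := lt_of_le_of_ne hale h3
      have hc : 1 < v.valuation k (b / a) := by
        rw [map_div₀, hvb, one_div]
        exact (one_lt_inv₀ (zero_lt_iff.2 hva)).2 halt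
      have : v.valuation k t = 1 := by
        rw [ht, (hB v hvB (b / a)).1 hc, natDegree_eq hy, map_div₀, hvb, ← mul_pow,
          mul_one_div_cancel hva, one_pow]
      exact ⟨this.le, Or.inl this⟩
  refine ⟨t, Algebra.norm_ne_zero_iff.2 hb0, fun v hv => ?_, fun w hw => ?_,
    fun v hv hv' => (main v hv hv').1, fun v hv => ?_⟩
  · have h := hb2 v (Finset.mem_union_left _ (Finset.mem_union_left _ hv))
    simp only [Bf, if_pos hv, Set.mem_preimage, detComb_pair] at h
    exact h
  · have h := hb3 w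
    simp only [Ui', if_pos hw, Set.mem_preimage, detComb_pair] at h
    exact h
  · rcases eq_or_ne v v₀ with rfl | hv'
    · exact Or.inr hL
    · exact (main v hv hv').2

theorem isOpen_div_pair {F : Type*} [Field F] [TopologicalSpace F] [T1Space F] [IsTopologicalRing F]
    [ContinuousInv₀ F] (φ : k →+* F) (y z : L) (U : Set F) (hU : IsOpen U) :
    IsOpen {x : F | detComb φ ![z, 1] ![1, x] ≠ 0 ∧
      detComb φ ![y, 1] ![1, x] / detComb φ ![z, 1] ![1, x] ∈ U} := by
  have h1 : IsOpen {x : F | detComb φ ![z, 1] ![1, x] ≠ 0} :=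
    isOpen_compl_singleton.preimage (continuous_pair_snd φ z 1)
  refine ((continuous_pair_snd φ y 1).continuousOn.div (continuous_pair_snd φ z 1).continuousOn
    fun x hx => hx).isOpen_inter_preimage h1 hU

/-- Elements near local norms that are units outside the places of degree one. -/
theorem exists_unit_or_hom (Sf : Finset Pl) (Si : Finset (InfinitePlace k))
    (Uf : (v : Pl) → Set (v.adicCompletion k))
    (hUf : ∀ v ∈ Sf, IsOpen (Uf v) ∧ ∃ x : (v.adicCompletion k) ⊗[k] L,
      Algebra.norm (v.adicCompletion k) x ∈ Uf v)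
    (Ui : (w : InfinitePlace k) → Set w.Completion)
    (hUi : ∀ w ∈ Si, IsOpen (Ui w) ∧ ∃ x : w.Completion ⊗[k] L, Algebra.norm w.Completion x ∈ Ui w) :
    ∃ t : k, t ≠ 0 ∧ (∀ v ∈ Sf, algebraMap k (v.adicCompletion k) t ∈ Uf v) ∧
      (∀ w ∈ Si, algebraMap k w.Completion t ∈ Ui w) ∧
      ∀ v : Pl, v ∉ Sf → v.valuation k t = 1 ∨ Nonempty (L →ₐ[k] v.adicCompletion k) := by
  classical
  let Ui' : (w : InfinitePlace k) → Set w.Completion := fun w => if w ∈ Si then Ui w else Set.univ
  have hUi' : ∀ w, IsOpen (Ui' w) ∧ ∃ x : w.Completion ⊗[k] L, Algebra.norm w.Completion x ∈ Ui' w := by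
    intro w
    by_cases h : w ∈ Si
    · simp only [Ui', if_pos h]; exact hUi w h
    · simp only [Ui', if_neg h]; exact ⟨isOpen_univ, 1, trivial⟩
  obtain ⟨y, hy, hy1, hy2⟩ := exists_generator Sf Uf hUf Ui' hUi'
  have hopen : ∀ {F : Type u} [Field F] [TopologicalSpace F] [T1Space F] [IsTopologicalRing F]
      [ContinuousInv₀ F] (d : F) (U : Set F), IsOpen U → IsOpen {x : F | x ≠ 0 ∧ d / x ∈ U} := by
    intro F _ _ _ _ _ d U hU
    refine (continuousOn_const.div continuousOn_id fun x hx => hx).isOpen_inter_preimage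
      (isOpen_compl_singleton (x := (0 : F))) hU
  obtain ⟨z, hz, hz1, hz2⟩ := exists_generator (L := L) Sf
    (fun v => {x | x ≠ 0 ∧ algebraMap k (v.adicCompletion k) (Algebra.norm k y) / x ∈ Uf v})
    (fun v hv => ⟨hopen _ _ (hUf v hv).1, 1, by simpa using hy1 v hv⟩)
    (fun w => {x | x ≠ 0 ∧ algebraMap k w.Completion (Algebra.norm k y) / x ∈ Ui' w})
    (fun w => ⟨hopen _ _ (hUi' w).1, 1, by simpa using hy2 w⟩)
  obtain ⟨B, hB⟩ := exists_bad hy
  obtain ⟨B', hB'⟩ := exists_bad hz
  obtain ⟨v₀, hv₀⟩ := exists_place_notMem (Sf ∪ B ∪ B')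
  have hone : ∀ {F : Type u} [Field F] (φ : k →+* F) (x : L) (c : k),
      detComb φ ![x, 1] ![1, φ c] = φ (Algebra.norm k (x + algebraMap k L c)) := by
    intro F _ φ x c
    rw [← map_one φ, detComb_pair, one_smul]
  have hinv : ∀ v : Pl, ∃ x : v.adicCompletion k, x ≠ 0 ∧
      Valued.v (detComb (algebraMap k (v.adicCompletion k)) ![y, 1] ![x⁻¹, 1]) = 1 ∧
      Valued.v (detComb (algebraMap k (v.adicCompletion k)) ![z, 1] ![x⁻¹, 1]) = 1 := by
    intro v
    have h0 : ∀ x : L, Valued.v (detComb (algebraMap k (v.adicCompletion k)) ![x, 1] ![0, 1]) = 1 := by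
      intro x
      rw [← map_zero (algebraMap k (v.adicCompletion k)), ← map_one (algebraMap k (v.adicCompletion k)),
        detComb_pair, zero_smul, zero_add, map_one, map_one, map_one, map_one]
    obtain ⟨p, hp, hpy, hpz⟩ := exists_nonzero_mem v _
      (((isOpen_val_eq_one v).preimage (continuous_pair_fst (algebraMap k (v.adicCompletion k)) y 1)).inter
        ((isOpen_val_eq_one v).preimage (continuous_pair_fst (algebraMap k (v.adicCompletion k)) z 1)))
      ⟨h0 y, h0 z⟩
    exact ⟨p⁻¹, inv_ne_zero hp, by rw [inv_inv]; exact hpy, by rw [inv_inv]; exact hpz⟩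
  let Cf : (v : Pl) → Set (v.adicCompletion k) := fun v => if v ∈ Sf
    then {x | detComb (algebraMap k (v.adicCompletion k)) ![z, 1] ![1, x] ≠ 0 ∧
      detComb (algebraMap k (v.adicCompletion k)) ![y, 1] ![1, x] /
        detComb (algebraMap k (v.adicCompletion k)) ![z, 1] ![1, x] ∈ Uf v}
    else {x | x ≠ 0 ∧ Valued.v (detComb (algebraMap k (v.adicCompletion k)) ![y, 1] ![x⁻¹, 1]) = 1 ∧
      Valued.v (detComb (algebraMap k (v.adicCompletion k)) ![z, 1] ![x⁻¹, 1]) = 1}
  obtain ⟨c, hc0, -, hc2, hc3⟩ := approx_one v₀ (Sf ∪ B ∪ B') hv₀ Cf (fun v _ => by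
      by_cases h : v ∈ Sf
      · simp only [Cf, if_pos h]
        refine ⟨isOpen_div_pair _ _ _ _ (hUf v h).1, ⟨algebraMap k _ 0, ?_⟩⟩
        rw [Set.mem_ofPred_eq, hone, hone, map_zero, add_zero, add_zero]
        exact hz1 v h
      · simp only [Cf, if_neg h]
        refine ⟨?_, hinv v⟩
        exact ((continuousOn_inv₀.mono fun x hx => hx)).isOpen_inter_preimage
          (isOpen_compl_singleton (x := (0 : v.adicCompletion k)))
          (((isOpen_val_eq_one v).preimage (continuous_pair_fst (algebraMap k (v.adicCompletion k)) y 1)).inter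
            ((isOpen_val_eq_one v).preimage (continuous_pair_fst (algebraMap k (v.adicCompletion k)) z 1))))
    (fun w => {x | detComb (algebraMap k w.Completion) ![z, 1] ![1, x] ≠ 0 ∧
      detComb (algebraMap k w.Completion) ![y, 1] ![1, x] /
        detComb (algebraMap k w.Completion) ![z, 1] ![1, x] ∈ Ui' w})
    (fun w => ⟨isOpen_div_pair _ _ _ _ (hUi' w).1, ⟨algebraMap k _ 0, by
      rw [Set.mem_ofPred_eq, hone, hone, map_zero, add_zero, add_zero]
      exact hz2 w⟩⟩)
    ({c | y + algebraMap k L c = 0} ∪ {c | z + algebraMap k L c = 0})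
    ((Set.Subsingleton.finite fun a ha b hb =>
        (algebraMap k L).injective (add_left_cancel (ha.trans hb.symm))).union
      (Set.Subsingleton.finite fun a ha b hb =>
        (algebraMap k L).injective (add_left_cancel (ha.trans hb.symm))))
  simp only [Set.mem_union, Set.mem_ofPred_eq, not_or] at hc0
  let Ny := Algebra.norm k (y + algebraMap k L c)
  let Nz := Algebra.norm k (z + algebraMap k L c)
  have hNy : Ny ≠ 0 := Algebra.norm_ne_zero_iff.2 hc0.1
  have hNz : Nz ≠ 0 := Algebra.norm_ne_zero_iff.2 hc0.2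
  refine ⟨Ny / Nz, div_ne_zero hNy hNz, fun v hv => ?_, fun w hw => ?_, fun v hv => ?_⟩
  · have h := hc2 v (Finset.mem_union_left _ (Finset.mem_union_left _ hv))
    simp only [Cf, if_pos hv, Set.mem_ofPred_eq, hone] at h
    rw [map_div₀]
    exact h.2
  · have h := (hc3 w).2
    simp only [Ui', if_pos hw, hone] at h
    rw [map_div₀]
    exact h
  have hsame : ∀ e : WithZero (Multiplicative ℤ), e ≠ 0 → v.valuation k Ny = e → v.valuation k Nz = e →
      v.valuation k (Ny / Nz) = 1 := fun e he h1 h2 => by rw [map_div₀, h1, h2, div_self he]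
  by_cases hvB : v ∈ B ∪ B'
  · left
    have h := hc2 v (by simp only [Finset.mem_union] at hvB ⊢; tauto)
    simp only [Cf, if_neg hv, Set.mem_ofPred_eq] at h
    obtain ⟨hc, h1, h2⟩ := h
    have hck : c ≠ 0 := fun e => hc (by rw [e, map_zero])
    have key : ∀ x : L, Valued.v (detComb (algebraMap k (v.adicCompletion k)) ![x, 1]
        ![(algebraMap k (v.adicCompletion k) c)⁻¹, 1]) = 1 →
        v.valuation k (Algebra.norm k (x + algebraMap k L c)) = v.valuation k c ^ Module.finrank k L := by
      intro x hx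
      rw [← map_inv₀, ← map_one (algebraMap k (v.adicCompletion k)), detComb_pair,
        StrongApproxH28.valued_algebraMap] at hx
      have e : x + algebraMap k L c = algebraMap k L c * (c⁻¹ • x + algebraMap k L 1) := by
        rw [Algebra.smul_def, map_one, mul_add, ← mul_assoc, ← map_mul, mul_inv_cancel₀ hck, map_one,
          one_mul, mul_one]
      rw [e, map_mul, Algebra.norm_algebraMap, map_mul, map_pow, hx, mul_one]
    exact hsame _ (pow_ne_zero _ ((Valuation.ne_zero_iff _).2 hck)) (key y h1) (key z h2)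
  simp only [Finset.mem_union, not_or] at hvB
  rcases lt_or_ge 1 (v.valuation k c) with hc | hc
  · left
    refine hsame _ (pow_ne_zero (Module.finrank k L) (zero_lt_one.trans hc).ne') ?_ ?_
    · rw [(hB v hvB.1 c).1 hc, natDegree_eq hy]
    · rw [(hB' v hvB.2 c).1 hc, natDegree_eq hz]
  · rcases ((hB v hvB.1 c).2 hc).2 with h1 | h1
    · rcases ((hB' v hvB.2 c).2 hc).2 with h2 | h2
      · exact Or.inl (hsame 1 one_ne_zero h1 h2)
      · exact Or.inr h2
    · exact Or.inr h1

end Groth.Agent.NormValH28
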