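import Mathlib
import Groth.Agent.Lib.NormValH28.Main

/-!
Decomposition groups: congruent embeddings at an unramified prime are equal, and the fixed field of
a decomposition group embeds into the completion.
-/

set_option autoImplicit false
set_option maxHeartbeats 1000000

open IsDedekindDomain NumberField Polynomial
open scoped WithZero

namespace Groth.Agent.NormValH28

universe u v w

variable {K : Type u} [Field K] [NumberField K] {L : Type v} [Field L] [NumberField L] [Algebra K L]
  {M : Type w} [Field M] [NumberField M] [Algebra K M]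

/-- An embedding on the rings of integers. -/
noncomputable def intHom (φ : L →ₐ[K] M) : 𝓞 L →ₐ[𝓞 K] 𝓞 M :=
  { RingOfIntegers.mapRingHom φ with
    commutes' := fun r => RingOfIntegers.ext (by
      show φ (algebraMap (𝓞 L) L (algebraMap (𝓞 K) (𝓞 L) r)) = algebraMap (𝓞 M) M (algebraMap (𝓞 K) (𝓞 M) r)
      rw [← IsScalarTower.algebraMap_apply (𝓞 K) (𝓞 L) L, ← IsScalarTower.algebraMap_apply (𝓞 K) (𝓞 M) M,
        IsScalarTower.algebraMap_apply (𝓞 K) K L, IsScalarTower.algebraMap_apply (𝓞 K) K M, φ.commutes]) }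

theorem intHom_coe (φ : L →ₐ[K] M) (x : 𝓞 L) : (intHom φ x : M) = φ (x : L) := rfl

theorem embedding_ext (φ ψ : L →ₐ[K] M) (P : Ideal (𝓞 M)) [hm : P.IsMaximal]
    (hunr : (P.comap (intHom φ)).ramificationIdx (𝓞 K) = 1)
    (h : ∀ x : 𝓞 L, intHom φ x - intHom ψ x ∈ P) : φ = ψ := by
  let f := intHom φ
  let g := intHom ψ
  let Q := P.comap f
  have : Algebra.IsUnramifiedAt (𝓞 K) Q := Ideal.ramificationIdx_eq_one_iff.1 hunr
  have hpow : ∀ (n : ℕ) (x : 𝓞 L), f x - g x ∈ P ^ n := by
    intro n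
    let R := 𝓞 M ⧸ P ^ n
    have hI : IsNilpotent (P.map (Ideal.Quotient.mk (P ^ n))) :=
      ⟨n, by rw [← Ideal.map_pow, Ideal.map_quotient_self]; rfl⟩
    let I := P.map (Ideal.Quotient.mk (P ^ n))
    have hPn : ∀ z : 𝓞 M, z ∈ P → Ideal.Quotient.mk (P ^ n) z ∈ I := fun z hz => Ideal.mem_map_of_mem _ hz
    have hunit : ∀ z : 𝓞 M, z ∉ P → IsUnit (Ideal.Quotient.mk (P ^ n) z) := by
      intro z hz
      obtain ⟨a, b, hb, hab⟩ := hm.exists_inv hz
      have hu : IsUnit (1 - Ideal.Quotient.mk (P ^ n) b) := by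
        refine IsNilpotent.isUnit_one_sub ⟨n, ?_⟩
        rw [← map_pow, Ideal.Quotient.eq_zero_iff_mem]
        exact Ideal.pow_mem_pow hb n
      rw [← map_one (Ideal.Quotient.mk (P ^ n)), ← map_sub, show (1 : 𝓞 M) - b = a * z by linear_combination -hab,
        map_mul] at hu
      exact isUnit_of_mul_isUnit_right hu
    let fbar : 𝓞 L →ₐ[𝓞 K] R := (Ideal.Quotient.mkₐ (𝓞 K) (P ^ n)).comp f
    let gbar : 𝓞 L →ₐ[𝓞 K] R := (Ideal.Quotient.mkₐ (𝓞 K) (P ^ n)).comp g
    have hf : ∀ y : Q.primeCompl, IsUnit (fbar y) := fun y => hunit _ y.2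
    have hg : ∀ y : Q.primeCompl, IsUnit (gbar y) := fun y => hunit _ fun hy => y.2 (by
      show intHom φ (y : 𝓞 L) ∈ P
      rw [← sub_add_cancel (intHom φ (y : 𝓞 L)) (intHom ψ (y : 𝓞 L))]
      exact P.add_mem (h y) hy)
    have hext := Algebra.FormallyUnramified.ext (A := Localization.AtPrime Q) I hI
      (g₁ := IsLocalization.liftAlgHom (M := Q.primeCompl) hf) (g₂ := IsLocalization.liftAlgHom (M := Q.primeCompl) hg)
      fun z => by
        obtain ⟨⟨a, s⟩, hz⟩ := IsLocalization.surj Q.primeCompl z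
        have key : ∀ a, Ideal.Quotient.mk I (fbar a) = Ideal.Quotient.mk I (gbar a) := fun a => by
          rw [Ideal.Quotient.eq]
          simp only [fbar, gbar, AlgHom.comp_apply, Ideal.Quotient.mkₐ_eq_mk, ← map_sub]
          exact hPn _ (h a)
        have h1 := congrArg (fun z => Ideal.Quotient.mk I (IsLocalization.liftAlgHom (M := Q.primeCompl) hf z)) hz
        have h2 := congrArg (fun z => Ideal.Quotient.mk I (IsLocalization.liftAlgHom (M := Q.primeCompl) hg z)) hz
        simp only [map_mul, IsLocalization.liftAlgHom_apply, IsLocalization.lift_eq] at h1 h2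
        have hs : IsUnit (Ideal.Quotient.mk I (fbar s)) := (hf s).map _
        refine hs.mul_left_inj.1 ?_
        simp only [IsLocalization.liftAlgHom_apply]
        refine h1.trans ((key a).trans (h2.symm.trans ?_))
        exact congrArg (_ * ·) (key s).symm
    intro x
    have := DFunLike.congr_fun hext (algebraMap (𝓞 L) (Localization.AtPrime Q) x)
    simp only [IsLocalization.liftAlgHom_apply, IsLocalization.lift_eq] at this
    exact Ideal.Quotient.eq.1 this
  have hfg : ∀ x : 𝓞 L, f x = g x := fun x => by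
    have hx : f x - g x ∈ ⨅ n, P ^ n := Ideal.mem_iInf.2 fun n => hpow n x
    rw [Ideal.iInf_pow_eq_bot_of_isDomain P hm.ne_top] at hx
    exact sub_eq_zero.1 hx
  refine AlgHom.ext fun y => ?_
  obtain ⟨a, b, hb, rfl⟩ := IsFractionRing.div_surjective (𝓞 L) y
  rw [map_div₀, map_div₀]
  show φ (a : L) / φ (b : L) = ψ (a : L) / ψ (b : L)
  rw [← intHom_coe φ, ← intHom_coe φ, ← intHom_coe ψ, ← intHom_coe ψ]
  exact congrArg₂ (fun p q : 𝓞 M => (p : M) / (q : M)) (hfg a) (hfg b)

open scoped Pointwise in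
/-- The fixed field of a decomposition group embeds into the completion. -/
theorem exists_hom_of_decomp [IsGalois K M] (W : HeightOneSpectrum (𝓞 K)) (P : Ideal (𝓞 M)) [P.IsMaximal]
    [hPW : P.LiesOver W.asIdeal] (F : IntermediateField K M)
    (hF : ∀ τ : M ≃ₐ[K] M, τ • P = P → ∀ x ∈ F, τ x = x) :
    Nonempty (F →ₐ[K] W.adicCompletion K) := by
  classical
  let D := MulAction.stabilizer (M ≃ₐ[K] M) P
  have hP0 : P ≠ ⊥ := Ideal.ne_bot_of_liesOver_of_ne_bot W.ne_bot P
  let others : Finset (M ≃ₐ[K] M) := Finset.univ.filter fun g => g ∉ D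
  have hJ : ¬ (∏ g ∈ others, g • P) ≤ P := by
    intro h
    obtain ⟨g, hg, hle⟩ := (Ideal.IsPrime.prod_le (Ideal.IsMaximal.isPrime inferInstance)).1 h
    have hmax : (g • P).IsMaximal := Ideal.IsPrime.isMaximal inferInstance fun h0 => hP0 (by rw [← inv_smul_smul g P, h0, Ideal.pointwise_smul_def, Ideal.map_bot])
    exact (Finset.mem_filter.1 hg).2 (MulAction.mem_stabilizer_iff.2 (hmax.eq_of_le (Ideal.IsMaximal.ne_top inferInstance) hle))
  obtain ⟨a, ha, haP⟩ := SetLike.not_le_iff_exists.1 hJ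
  obtain ⟨c, b, hb, hcb⟩ := Ideal.IsMaximal.exists_inv (I := P) inferInstance haP
  let α := c * a
  have hα1 : α - 1 ∈ P := by rw [show α - 1 = -b by linear_combination hcb]; exact P.neg_mem hb
  have hαg : ∀ g : M ≃ₐ[K] M, g • P ≠ P → α ∈ g • P := fun g hg => Ideal.mul_mem_left _ _
    ((Ideal.prod_le_inf.trans (Finset.inf_le (f := fun g => g • P) (show g ∈ others by simpa [others, D] using hg))) ha)
  let β : 𝓞 M := ∏ τ : D, τ • α
  have hβD : ∀ τ : M ≃ₐ[K] M, τ • P = P → τ • β = β := by
    intro τ hτ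
    show τ • (∏ σ : D, σ • α) = _
    rw [Finset.smul_prod']
    exact Fintype.prod_equiv (Equiv.mulLeft (⟨τ, MulAction.mem_stabilizer_iff.2 hτ⟩ : D)) _ _ fun σ => by
      simp [Subgroup.smul_def, mul_smul]
  have hβ1 : β - 1 ∈ P := by
    rw [← Ideal.Quotient.eq, map_one, map_prod]
    refine Finset.prod_eq_one fun τ _ => ?_
    rw [← map_one (Ideal.Quotient.mk P), Ideal.Quotient.eq]
    have h1 : τ • (α - 1) ∈ (τ : M ≃ₐ[K] M) • P := Ideal.smul_mem_pointwise_smul _ _ _ hα1
    rwa [MulAction.mem_stabilizer_iff.1 τ.2, smul_sub, smul_one] at h1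
  have hβg : ∀ g : M ≃ₐ[K] M, g • P ≠ P → g • β ∈ P := by
    intro g hg
    have hg' : g⁻¹ • P ≠ P := fun h => hg (by rw [← h, smul_inv_smul, h])
    have h1 : β ∈ g⁻¹ • P := Ideal.mem_of_dvd _ (Finset.dvd_prod_of_mem (fun τ : D => τ • α) (Finset.mem_univ (1 : D)))
      (by rw [one_smul]; exact hαg _ hg')
    have h2 := Ideal.smul_mem_pointwise_smul g _ _ h1
    rwa [smul_inv_smul] at h2
  have hstab : ∀ g : M ≃ₐ[K] M, g • β = β → g • P = P := by
    intro g hg
    by_contra hne
    have h1 := hβg g hne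
    rw [hg] at h1
    have h2 := P.sub_mem h1 hβ1
    rw [sub_sub_cancel] at h2
    exact Ideal.IsMaximal.ne_top inferInstance (P.eq_top_iff_one.2 h2)
  -- the polynomial
  let orb := Finset.univ.image fun g : M ≃ₐ[K] M => g • β
  let h : (𝓞 M)[X] := ∏ y ∈ orb, (X - C y)
  have hmonic : h.Monic := monic_prod_of_monic _ _ fun y _ => monic_X_sub_C y
  have hdeg : h.natDegree = orb.card := by
    rw [natDegree_prod_of_monic _ _ fun y _ => monic_X_sub_C y]; simp
  have hinv : ∀ (g : M ≃ₐ[K] M) (i : ℕ), g • h.coeff i = h.coeff i := by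
    intro g i
    have hmap : h.map (MulSemiringAction.toRingHom _ (𝓞 M) g) = h := by
      show Polynomial.map _ (∏ y ∈ orb, (X - C y)) = _
      rw [Polynomial.map_prod]
      simp only [Polynomial.map_sub, map_X, map_C, MulSemiringAction.toRingHom_apply]
      refine Finset.prod_bij (fun y _ => g • y) (fun y hy => ?_) (fun y _ z _ e => smul_left_cancel g e)
        (fun y hy => ⟨g⁻¹ • y, ?_, smul_inv_smul g y⟩) fun y _ => rfl
      · obtain ⟨g', -, rfl⟩ := Finset.mem_image.1 hy
        exact Finset.mem_image.2 ⟨g * g', Finset.mem_univ _, mul_smul g g' β⟩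
      · obtain ⟨g', -, rfl⟩ := Finset.mem_image.1 hy
        exact Finset.mem_image.2 ⟨g⁻¹ * g', Finset.mem_univ _, mul_smul g⁻¹ g' β⟩
    have := congrArg (fun q => Polynomial.coeff q i) hmap
    simpa [coeff_map, MulSemiringAction.toRingHom_apply] using this
  obtain ⟨f, hf, hfdeg, hfm⟩ := lifts_and_degree_eq_and_monic (f := algebraMap (𝓞 K) (𝓞 M))
    (p := h) ((lifts_iff_coeff_lifts h).2 fun i => Algebra.IsInvariant.isInvariant (h.coeff i) fun g => hinv g i) hmonic
  -- `1` is a simple root modulo `P`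
  have hβorb : β ∈ orb := Finset.mem_image.2 ⟨1, Finset.mem_univ _, one_smul _ β⟩
  let r : (𝓞 M)[X] := ∏ y ∈ orb.erase β, (X - C y)
  have hsplit : h = (X - C β) * r := (Finset.mul_prod_erase _ _ hβorb).symm
  have hr1 : r.eval 1 - 1 ∈ P := by
    rw [← Ideal.Quotient.eq, map_one, eval_prod, map_prod]
    refine Finset.prod_eq_one fun y hy => ?_
    obtain ⟨hne, hy⟩ := Finset.mem_erase.1 hy
    obtain ⟨g, -, rfl⟩ := Finset.mem_image.1 hy
    rw [eval_sub, eval_X, eval_C, ← map_one (Ideal.Quotient.mk P), Ideal.Quotient.eq, sub_sub_cancel_left]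
    exact P.neg_mem (hβg g fun e => hne (hβD g e))
  have hval : algebraMap (𝓞 K) (𝓞 M) (f.eval 1) ∈ P := by
    rw [← eval₂_at_apply, ← eval_map, hf, map_one, hsplit, eval_mul]
    refine P.mul_mem_right _ ?_
    rw [eval_sub, eval_X, eval_C, ← neg_sub]
    exact P.neg_mem hβ1
  have hder : algebraMap (𝓞 K) (𝓞 M) ((derivative f).eval 1) ∉ P := by
    intro hmem
    rw [← eval₂_at_apply, ← eval_map, ← derivative_map, hf, map_one, hsplit, derivative_mul, eval_add, eval_mul,
      eval_mul, derivative_sub, derivative_X, derivative_C, sub_zero, eval_one, one_mul] at hmem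
    have h3 : (X - C β).eval 1 * (derivative r).eval 1 ∈ P := P.mul_mem_right _ (by
      rw [eval_sub, eval_X, eval_C, ← neg_sub]; exact P.neg_mem hβ1)
    have h4 := P.sub_mem (P.sub_mem hmem h3) hr1
    rw [add_sub_cancel_right, sub_sub_cancel] at h4
    exact Ideal.IsMaximal.ne_top inferInstance (P.eq_top_iff_one.2 h4)
  obtain ⟨z, hz⟩ := exists_root_completion W (f.map (algebraMap (𝓞 K) K))
    (fun i => by rw [coeff_map]; exact W.valuation_le_one _) 1 (by rw [map_one])
    (by
      rw [← map_one (algebraMap (𝓞 K) K), eval_map, eval₂_at_apply, W.valuation_lt_one_iff_mem,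
        Ideal.mem_of_liesOver P W.asIdeal]
      exact hval)
    (by
      rw [← map_one (algebraMap (𝓞 K) K), derivative_map, eval_map, eval₂_at_apply,
        W.valuation_eq_one_iff_notMem, Ideal.mem_of_liesOver P W.asIdeal]
      exact hder)
  -- it is the minimal polynomial
  let fK := f.map (algebraMap (𝓞 K) K)
  have hfKM : fK.map (algebraMap K M) = h.map (algebraMap (𝓞 M) M) := by
    rw [← hf, Polynomial.map_map, Polynomial.map_map, ← IsScalarTower.algebraMap_eq, ← IsScalarTower.algebraMap_eq]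
  have hroot : aeval (β : M) fK = 0 := by
    rw [aeval_def, ← eval_map, hfKM, eval_map, eval₂_at_apply, hsplit, eval_mul, eval_sub, eval_X, eval_C,
      sub_self, zero_mul, map_zero]
  have hmin : minpoly K (β : M) = fK := by
    refine (eq_of_monic_of_dvd_of_natDegree_le (minpoly.monic (Algebra.IsIntegral.isIntegral _)) (hfm.map _)
      (minpoly.dvd K _ hroot) ?_).symm
    rw [hfm.natDegree_map, natDegree_eq_natDegree hfdeg, hdeg]
    refine le_trans ?_ (card_roots' ((minpoly K (β : M)).map (algebraMap K M)) |>.trans natDegree_map_le)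
    have hsub : orb.map ⟨_, RingOfIntegers.coe_injective⟩ ⊆ ((minpoly K (β : M)).map (algebraMap K M)).roots.toFinset := by
      intro y hy
      obtain ⟨y', hy', rfl⟩ := Finset.mem_map.1 hy
      obtain ⟨g, -, rfl⟩ := Finset.mem_image.1 hy'
      rw [Multiset.mem_toFinset, mem_roots (map_ne_zero (minpoly.ne_zero (Algebra.IsIntegral.isIntegral _))),
        IsRoot.def, eval_map, ← aeval_def]
      show aeval (g (β : M)) _ = 0
      rw [aeval_algHom_apply, minpoly.aeval, map_zero]
    refine le_trans ?_ (Multiset.toFinset_card_le _)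
    exact (Finset.card_map _).symm.le.trans (Finset.card_le_card hsub)
  have hFle : F ≤ IntermediateField.adjoin K {(β : M)} := by
    rw [← IsGalois.fixedField_fixingSubgroup (IntermediateField.adjoin K {(β : M)})]
    intro x hx
    rw [IntermediateField.mem_fixedField_iff]
    intro g hg
    refine hF g (hstab g (RingOfIntegers.ext ?_)) x hx
    exact (IntermediateField.mem_fixingSubgroup_iff _ g).1 hg _ (IntermediateField.mem_adjoin_simple_self K _)
  let pb := IntermediateField.adjoin.powerBasis (K := K) (Algebra.IsIntegral.isIntegral (β : M))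
  refine ⟨(pb.lift z ?_).comp (IntermediateField.inclusion hFle)⟩
  rw [show pb.gen = IntermediateField.AdjoinSimple.gen K (β : M) from rfl, IntermediateField.minpoly_gen, hmin, aeval_def, ← eval_map]
  exact hz

end Groth.Agent.NormValH28
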