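import Mathlib
import Groth.Agent.Lib.StrongApproxH28.Approx

/-!
Functionals on a finite extension of number fields are small at a place when the argument is small
at all places above it.
-/

set_option autoImplicit false

open IsDedekindDomain NumberField
open WithZero (exp exp_zero exp_le_exp exp_pos)
open scoped WithZero

namespace Groth.Agent.NormValH28

universe u v

variable {k : Type u} [Field k] [NumberField k] {K : Type v} [Field K] [NumberField K] [Algebra k K]

theorem exists_eq_trace (Λ : K →ₗ[k] k) : ∃ c : K, ∀ x, Λ x = Algebra.trace k K (c * x) := by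
  obtain ⟨c, hc⟩ := ((Algebra.traceForm k K).toDual (traceForm_nondegenerate k K)).surjective Λ
  exact ⟨c, fun x => by rw [← hc]; rfl⟩

theorem finite_above (v : HeightOneSpectrum (𝓞 k)) :
    {W : HeightOneSpectrum (𝓞 K) | W.under (𝓞 k) = v}.Finite := by
  refine Set.Finite.of_finite_image (f := fun W => W.asIdeal)
    ((IsDedekindDomain.primesOver_finite v.asIdeal (𝓞 K)).subset ?_)
    fun a _ b _ h => HeightOneSpectrum.ext h
  rintro _ ⟨W, hW, rfl⟩
  exact ⟨W.isPrime, ⟨(congrArg HeightOneSpectrum.asIdeal hW).symm⟩⟩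

omit [Algebra k K] in
theorem finite_valuation_gt (x : K) :
    {W : HeightOneSpectrum (𝓞 K) | 1 < W.valuation K x}.Finite := by
  by_cases hx : x = 0
  · simp [hx]
  · exact (StrongApproxH28.finite_valuation_ne_one K hx).subset fun W hW => ne_of_gt hW

theorem trace_val_le_one (v : HeightOneSpectrum (𝓞 k)) (x : K)
    (hx : ∀ W : HeightOneSpectrum (𝓞 K), W.under (𝓞 k) = v → W.valuation K x ≤ 1) :
    v.valuation k (Algebra.trace k K x) ≤ 1 := by
  classical
  let P := (finite_valuation_gt x).toFinset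
  have hs : ∀ W : HeightOneSpectrum (𝓞 K), ∃ s : 𝓞 k, W ∈ P → s ∉ v.asIdeal ∧
      W.valuation K (algebraMap (𝓞 K) K (algebraMap (𝓞 k) (𝓞 K) s)) * W.valuation K x ≤ 1 := by
    intro W
    by_cases hW : W ∈ P
    · have hW' : 1 < W.valuation K x := by simpa [P] using hW
      have hne : ¬ (W.under (𝓞 k)).asIdeal ≤ v.asIdeal := fun h => by
        have := HeightOneSpectrum.ext (((W.under (𝓞 k)).isMaximal).eq_of_le v.isPrime.ne_top h)
        exact (not_lt.2 (hx W this)) hW'
      obtain ⟨s, hs, hsv⟩ := SetLike.not_le_iff_exists.1 hne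
      have hlt : W.valuation K (algebraMap (𝓞 K) K (algebraMap (𝓞 k) (𝓞 K) s)) < 1 :=
        (W.valuation_lt_one_iff_mem _).2 hs
      obtain ⟨N, hN⟩ := exists_pow_lt₀ hlt (Units.mk0 (W.valuation K x)⁻¹ (inv_ne_zero (zero_lt_one.trans hW').ne'))
      refine ⟨s ^ N, fun _ => ⟨fun h => hsv (v.isPrime.mem_of_pow_mem N h), ?_⟩⟩
      rw [map_pow, map_pow, map_pow]
      refine (mul_le_mul_left hN.le _).trans (le_of_eq ?_)
      exact inv_mul_cancel₀ (zero_lt_one.trans hW').ne'
    · exact ⟨1, fun h => absurd h hW⟩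
  choose s hsv hsx using hs
  let S := ∏ W ∈ P, s W
  have hS : S ∉ v.asIdeal := fun h => by
    obtain ⟨W, hW, hm⟩ := (Ideal.IsPrime.prod_mem_iff (hp := v.isPrime)).1 h
    exact hsv W hW hm
  have hint : IsIntegral ℤ (algebraMap k K (algebraMap (𝓞 k) k S) * x) := by
    have hm := HeightOneSpectrum.mem_integers_of_valuation_le_one K
      (algebraMap k K (algebraMap (𝓞 k) k S) * x) fun W => by
      rw [← IsScalarTower.algebraMap_apply (𝓞 k) k K, IsScalarTower.algebraMap_apply (𝓞 k) (𝓞 K) K, map_mul]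
      by_cases hW : W ∈ P
      · have hd : s W ∣ S := Finset.dvd_prod_of_mem _ hW
        obtain ⟨r, hr⟩ := hd
        rw [hr, map_mul, map_mul, map_mul, mul_right_comm]
        exact mul_le_one' (hsx W hW) (W.valuation_le_one _)
      · exact mul_le_one' (W.valuation_le_one _) (by simpa [P] using hW)
    obtain ⟨y, hy⟩ := hm
    rw [← hy]
    exact y.isIntegral_coe
  have h2 : IsIntegral ℤ (Algebra.trace k K (algebraMap k K (algebraMap (𝓞 k) k S) * x)) :=
    Algebra.isIntegral_trace hint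
  obtain ⟨y, hy⟩ : ∃ y : 𝓞 k, algebraMap (𝓞 k) k y = Algebra.trace k K (algebraMap k K (algebraMap (𝓞 k) k S) * x) :=
    ⟨⟨_, h2⟩, rfl⟩
  rw [← Algebra.smul_def, map_smul, smul_eq_mul] at hy
  have h3 := congrArg (v.valuation k) hy
  rw [map_mul, (v.valuation_eq_one_iff_notMem (K := k)).2 hS, one_mul] at h3
  exact h3 ▸ v.valuation_le_one y

/-- Smallness above `v` forces smallness at `v`. -/
theorem small_fin (v : HeightOneSpectrum (𝓞 k)) (Λ : K →ₗ[k] k) (N : ℕ) :
    ∃ M : ℕ, ∀ x : K, (∀ W : HeightOneSpectrum (𝓞 K), W.under (𝓞 k) = v →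
      W.valuation K x ≤ exp (-(M : ℤ))) → v.valuation k (Λ x) ≤ exp (-(N : ℤ)) := by
  classical
  obtain ⟨c, hc⟩ := exists_eq_trace Λ
  obtain ⟨π, hπ⟩ := v.valuation_exists_uniformizer k
  have hπ0 : π ≠ 0 := fun h => by rw [h, map_zero] at hπ; exact WithZero.exp_ne_zero hπ.symm
  let d : K := c / algebraMap k K (π ^ N)
  have hM : ∀ W : HeightOneSpectrum (𝓞 K), ∃ M : ℕ, W.valuation K d * exp (-(M : ℤ)) ≤ 1 := by
    intro W
    by_cases hd : W.valuation K d = 0
    · exact ⟨0, by simp [hd]⟩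
    · refine ⟨(WithZero.log (W.valuation K d)).toNat, ?_⟩
      conv_lhs => arg 1; rw [← WithZero.exp_log hd]
      rw [← WithZero.exp_add, ← exp_zero, exp_le_exp]
      omega
  choose M hM using hM
  refine ⟨(finite_above (K := K) v).toFinset.sup M, fun x hx => ?_⟩
  have h1 : v.valuation k (Algebra.trace k K (d * x)) ≤ 1 := trace_val_le_one v _ fun W hW => by
    rw [map_mul]
    refine le_trans (mul_le_mul_right ((hx W hW).trans (exp_le_exp.2 ?_)) _) (hM W)
    have := Finset.le_sup (f := M) ((finite_above (K := K) v).mem_toFinset.2 hW)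
    omega
  have e : c * x = (π ^ N) • (d * x) := by
    rw [Algebra.smul_def, ← mul_assoc, mul_div_cancel₀]
    exact (_root_.map_ne_zero _).2 (pow_ne_zero _ hπ0)
  rw [hc, e, map_smul, smul_eq_mul, map_mul, map_pow, hπ, ← WithZero.exp_nsmul]
  refine le_trans (mul_le_of_le_one_right' h1) (exp_le_exp.2 ?_)
  simp

/-- Outside finitely many places a functional preserves integrality. -/
theorem integral_bad (Λ : K →ₗ[k] k) : ∃ B : Finset (HeightOneSpectrum (𝓞 k)), ∀ v ∉ B, ∀ x : K,
    (∀ W : HeightOneSpectrum (𝓞 K), W.under (𝓞 k) = v → W.valuation K x ≤ 1) →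
      v.valuation k (Λ x) ≤ 1 := by
  classical
  obtain ⟨c, hc⟩ := exists_eq_trace Λ
  refine ⟨(finite_valuation_gt c).toFinset.image fun W => W.under (𝓞 k),
    fun v hv x hx => hc x ▸ trace_val_le_one v _ fun W hW => ?_⟩
  rw [map_mul]
  refine mul_le_one' (not_lt.1 fun h => hv ?_) (hx W hW)
  exact Finset.mem_image.2 ⟨W, by simpa using h, hW⟩

/-- The infinite places. -/
theorem small_inf (w : InfinitePlace k) (Λ : K →ₗ[k] k) (ε : ℝ) (hε : 0 < ε) :
    ∃ δ : ℝ, 0 < δ ∧ ∀ x : K, (∀ W : InfinitePlace K, W.comap (algebraMap k K) = w → W x < δ) →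
      w (Λ x) < ε := by
  classical
  obtain ⟨c, hc⟩ := exists_eq_trace Λ
  letI : Algebra k ℂ := w.embedding.toAlgebra
  let C := ∑ τ : K →ₐ[k] ℂ, ‖τ c‖
  have hC : 0 ≤ C := Finset.sum_nonneg fun τ _ => norm_nonneg _
  refine ⟨ε / (C + 1), by positivity, fun x hx => ?_⟩
  have h1 : w.embedding (Λ x) = ∑ τ : K →ₐ[k] ℂ, τ (c * x) := by
    rw [hc]; exact trace_eq_sum_embeddings ℂ
  have h2 : ∀ τ : K →ₐ[k] ℂ, ‖τ x‖ < ε / (C + 1) := fun τ => by
    have hcomap : (InfinitePlace.mk τ.toRingHom).comap (algebraMap k K) = w := by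
      rw [InfinitePlace.comap_mk, AlgHom.toRingHom_eq_coe, τ.comp_algebraMap]
      exact InfinitePlace.mk_embedding w
    exact hx _ hcomap
  rw [← InfinitePlace.norm_embedding_eq, h1]
  refine (norm_sum_le _ _).trans_lt (lt_of_le_of_lt (b := C * (ε / (C + 1))) ?_ ?_)
  · rw [Finset.sum_mul]
    refine Finset.sum_le_sum fun τ _ => ?_
    rw [map_mul, norm_mul]
    exact mul_le_mul_of_nonneg_left (h2 τ).le (norm_nonneg _)
  · rw [mul_div_assoc', div_lt_iff₀ (by positivity)]
    nlinarith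

end Groth.Agent.NormValH28
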