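import Mathlib
import Groth.Agent.Lib.NormValH28.Main

/-!
Places splitting completely in a given finite normal extension.
-/

set_option autoImplicit false
set_option maxHeartbeats 1000000

open Polynomial IsDedekindDomain NumberField
open scoped WithZero TensorProduct

namespace Groth.Agent.NormValH28

universe u v w

variable {k : Type u} [Field k] [NumberField k]

local notation "Pl" => HeightOneSpectrum (RingOfIntegers k)

theorem norm_two (M : Type v) [Field M] [Algebra k M] [FiniteDimensional k M] (F : Type*) [Field F]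
    [Algebra k F] (c : F) : Algebra.norm F (algebraMap F (F ⊗[k] M) c) = c ^ Module.finrank k M := by
  rw [Algebra.norm_algebraMap_of_basis (Algebra.TensorProduct.basis F (Module.finBasis k M)),
    Fintype.card_fin]

/-- Infinitely many places have a point of degree one. -/
theorem exists_place_hom (M : Type v) [Field M] [Algebra k M] [FiniteDimensional k M]
    [Algebra.IsSeparable k M] (S : Finset Pl) :
    ∃ v : Pl, v ∉ S ∧ Nonempty (M →ₐ[k] v.adicCompletion k) := by
  classical
  by_contra hcon
  push Not at hcon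
  obtain ⟨t, ht0, htf, hti, ht⟩ := exists_unit_or_hom (L := M) S Finset.univ
    (fun v => {x | Valued.v (x - 1) < 1})
    (fun v _ => ⟨isOpen_val_sub_lt_one v 1, 1, by simp⟩)
    (fun w => Metric.ball ((2 : w.Completion) ^ Module.finrank k M) 1)
    (fun w _ => ⟨Metric.isOpen_ball, algebraMap _ _ (2 : w.Completion),
      by rw [norm_two]; exact Metric.mem_ball_self one_pos⟩)
  have hone : ∀ v : Pl, v.valuation k t = 1 := by
    intro v
    by_cases hv : v ∈ S
    · have h := htf v hv
      simp only [Set.mem_ofPred_eq] at h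
      rw [← map_one (algebraMap k (v.adicCompletion k)), ← map_sub, StrongApproxH28.valued_algebraMap] at h
      rw [← sub_add_cancel t 1, Valuation.map_add_eq_of_lt_right _ (by rwa [map_one]), map_one]
    · rcases ht v hv with h | ⟨⟨f⟩⟩
      · exact h
      · exact ((hcon v hv).false f).elim
  have hfin : ∀ w : FinitePlace k, w t = 1 := fun w => by
    rw [← FinitePlace.mk_maximalIdeal w, FinitePlace.mk_apply, FinitePlace.norm_embedding, NumberField.HeightOneSpectrum.adicAbv_def,
      hone, map_one, NNReal.coe_one]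
  have hinf : ∀ w : InfinitePlace k, 1 < w t := fun w => by
    have h := hti w (Finset.mem_univ w)
    rw [Metric.mem_ball, dist_eq_norm] at h
    have h2 : (2 : w.Completion) ^ Module.finrank k M = algebraMap k w.Completion (2 ^ Module.finrank k M) := by
      rw [map_pow, map_ofNat]
    rw [h2, ← map_sub] at h
    have h3 : w (t - 2 ^ Module.finrank k M) < 1 := lt_of_eq_of_lt (InfinitePlace.Completion.norm_coe w _).symm h
    have h4 : w ((2 : k) ^ Module.finrank k M) ≤ w t + w (t - 2 ^ Module.finrank k M) := by
      have h6 : (2 : k) ^ Module.finrank k M = t + -(t - 2 ^ Module.finrank k M) := by ring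
      calc w ((2 : k) ^ Module.finrank k M) = w (t + -(t - 2 ^ Module.finrank k M)) := by rw [← h6]
        _ ≤ w t + w (-(t - 2 ^ Module.finrank k M)) := w.1.add_le _ _
        _ = _ := congrArg (w t + ·) (w.1.map_neg _)
    have h5 : (2 : ℝ) ≤ w ((2 : k) ^ Module.finrank k M) := by
      rw [map_pow, ← InfinitePlace.norm_embedding_eq, map_ofNat, RCLike.norm_ofNat]
      exact le_self_pow₀ one_le_two Module.finrank_pos.ne'
    linarith
  have hp := NumberField.prod_abs_eq_one (K := k) ht0
  rw [finprod_eq_one_of_forall_eq_one hfin, mul_one] at hp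
  refine (ne_of_gt ?_) hp
  calc (1 : ℝ) = ∏ _w : InfinitePlace k, 1 := Finset.prod_const_one.symm
    _ < ∏ w : InfinitePlace k, w t ^ w.mult := Finset.prod_lt_prod_of_nonempty (fun _ _ => one_pos)
        (fun w _ => one_lt_pow₀ (hinf w) (InfinitePlace.mult_pos (w := w)).ne') Finset.univ_nonempty

/-- A place splitting completely in a normal extension. -/
theorem exists_split (M : Type v) [Field M] [Algebra k M] [FiniteDimensional k M] [Normal k M]
    [Algebra.IsSeparable k M] (S : Finset Pl) :
    ∃ v : Pl, v ∉ S ∧ ∀ (K : Type w) [Field K] [NumberField K] [Algebra k K] (L : Type w) [Field L]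
      [Algebra k L] [Algebra K L] [IsScalarTower k K L], Nonempty (L →ₐ[k] M) →
        ∀ W : HeightOneSpectrum (RingOfIntegers K), W.under (RingOfIntegers k) = v →
          Nonempty (L →ₐ[K] W.adicCompletion K) := by
  classical
  obtain ⟨Θ, hΘ⟩ := Field.exists_primitive_element k M
  have hint : IsIntegral k Θ := Algebra.IsIntegral.isIntegral Θ
  obtain ⟨P, Q, hPQ⟩ := Algebra.IsSeparable.isSeparable k Θ
  let f := minpoly k Θ
  let bad : Set Pl := {v | ∃ i, 1 < v.valuation k (f.coeff i)} ∪
    ({v | ∃ i, 1 < v.valuation k (P.coeff i)} ∪ {v | ∃ i, 1 < v.valuation k (Q.coeff i)})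
  have hbad : bad.Finite := (finite_bad f).union ((finite_bad P).union (finite_bad Q))
  obtain ⟨v, hv, ⟨μ⟩⟩ := exists_place_hom M (S ∪ hbad.toFinset)
  simp only [Finset.mem_union, Set.Finite.mem_toFinset, bad, Set.mem_union, Set.mem_ofPred_eq, not_or,
    not_exists, not_lt] at hv
  obtain ⟨hvS, hf, hP, hQ⟩ := hv
  obtain ⟨q, hq⟩ := (HeightOneSpectrum.denseRange_algebraMap k v).exists_mem_open
    ((isOpen_val_sub_lt_one v 0).preimage (f.map (algebraMap k (v.adicCompletion k))).continuous)
    ⟨μ Θ, by
      show Valued.v (eval (μ Θ) (f.map (algebraMap k (v.adicCompletion k))) - 0) < 1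
      rw [eval_map, ← aeval_def, aeval_algHom_apply, minpoly.aeval, map_zero, sub_zero, map_zero]
      exact zero_lt_one⟩
  simp only [Set.mem_preimage, Set.mem_ofPred_eq, sub_zero, eval_map, eval₂_at_apply,
    StrongApproxH28.valued_algebraMap] at hq
  have hq1 : v.valuation k q ≤ 1 := not_lt.1 fun h => by
    rw [val_eval_monic v f (minpoly.monic hint) hf h] at hq
    exact not_le.2 hq (one_le_pow₀ h.le)
  refine ⟨v, hvS, fun K _ _ _ L _ _ _ _ hLM W hW => ?_⟩
  obtain ⟨j⟩ := hLM
  have : W.asIdeal.LiesOver v.asIdeal := ⟨(congrArg HeightOneSpectrum.asIdeal hW).symm⟩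
  have hWle : ∀ x : k, v.valuation k x ≤ 1 → W.valuation K (algebraMap k K x) ≤ 1 := fun x hx => by
    rw [← HeightOneSpectrum.valuation_liesOver K v W]; exact pow_le_one₀ zero_le hx
  have hcoeff : ∀ (p : k[X]), (∀ i, v.valuation k (p.coeff i) ≤ 1) →
      ∀ i, W.valuation K ((p.map (algebraMap k K)).coeff i) ≤ 1 := fun p hp i => by
    rw [coeff_map]; exact hWle _ (hp i)
  let fK := f.map (algebraMap k K)
  have hfq : W.valuation K (fK.eval (algebraMap k K q)) < 1 := by
    rw [eval_map, eval₂_at_apply, ← HeightOneSpectrum.valuation_liesOver K v W]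
    exact pow_lt_one₀ zero_le hq (Ideal.IsDedekindDomain.ramificationIdx'_ne_zero_of_liesOver _ v.ne_bot)
  have hdK : ∀ i, W.valuation K ((derivative fK).coeff i) ≤ 1 := fun i => by
    rw [coeff_derivative, map_mul]
    refine mul_le_one' (hcoeff f hf _) ?_
    have := W.valuation_le_one (K := K) ((i : RingOfIntegers K) + 1)
    simpa using this
  have hd : W.valuation K ((derivative fK).eval (algebraMap k K q)) = 1 := by
    refine le_antisymm (val_eval_le_one W _ hdK (hWle q hq1)) (not_lt.1 fun h => ?_)
    have he : (P.map (algebraMap k K)).eval (algebraMap k K q) * fK.eval (algebraMap k K q) +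
        (Q.map (algebraMap k K)).eval (algebraMap k K q) * (derivative fK).eval (algebraMap k K q) = 1 := by
      rw [← eval_mul, ← eval_mul, ← eval_add, derivative_map, ← Polynomial.map_mul, ← Polynomial.map_mul,
        ← Polynomial.map_add, hPQ, Polynomial.map_one, eval_one]
    have hlt := congrArg (W.valuation K) he
    refine (ne_of_lt ?_) (hlt.trans (map_one _))
    refine (Valuation.map_add _ _ _).trans_lt (max_lt ?_ ?_) <;> rw [map_mul]
    · exact (mul_le_of_le_one_left' (val_eval_le_one W _ (hcoeff P hP) (hWle q hq1))).trans_lt hfq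
    · exact (mul_le_of_le_one_left' (val_eval_le_one W _ (hcoeff Q hQ) (hWle q hq1))).trans_lt h
  obtain ⟨r, hr⟩ := exists_root_completion W fK (hcoeff f hf) _ (hWle q hq1) hfq hd
  letI : Algebra k (W.adicCompletion K) :=
    ((algebraMap K (W.adicCompletion K)).comp (algebraMap k K)).toAlgebra
  have : IsScalarTower k K (W.adicCompletion K) := IsScalarTower.of_algebraMap_eq fun x => rfl
  obtain ⟨pb, hpb⟩ := exists_powerBasis hΘ
  let μW : M →ₐ[k] W.adicCompletion K := pb.lift r (by
    rw [hpb, aeval_def, IsScalarTower.algebraMap_eq k K (W.adicCompletion K), ← eval₂_map, ← eval_map]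
    exact hr)
  obtain ⟨a, ha⟩ := Field.exists_primitive_element k K
  have haint : IsIntegral k a := Algebra.IsIntegral.isIntegral a
  obtain ⟨pa, hpa⟩ := exists_powerBasis ha
  let j0 : K →ₐ[k] M := j.comp (IsScalarTower.toAlgHom k K L)
  have hsp : ((minpoly k a).map (algebraMap k M)).Splits := by
    have h := Normal.splits (F := k) inferInstance (j0 a)
    rwa [minpoly.algHom_eq j0 j0.injective a] at h
  obtain ⟨r', hr', hr'a⟩ : ∃ r', aeval r' (minpoly k a) = 0 ∧ μW r' = algebraMap K (W.adicCompletion K) a := by
    have h0 : aeval (algebraMap K (W.adicCompletion K) a) (minpoly k a) = 0 := by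
      rw [aeval_algebraMap_apply, minpoly.aeval, map_zero]
    rw [aeval_def, ← μW.comp_algebraMap, ← eval₂_map, ← eval_map,
      hsp.eq_prod_roots, Polynomial.map_mul, eval_mul, mul_eq_zero] at h0
    rcases h0 with h0 | h0
    · rw [map_C, eval_C, map_eq_zero, leadingCoeff_eq_zero] at h0
      exact absurd h0 (map_monic_ne_zero (minpoly.monic haint))
    · rw [Polynomial.map_multiset_prod, Multiset.map_map, eval_multiset_prod, Multiset.map_map,
        Multiset.prod_eq_zero_iff, Multiset.mem_map] at h0
      obtain ⟨r', hr', h⟩ := h0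
      refine ⟨r', ?_, ?_⟩
      · rw [aeval_def, ← eval_map]; exact (mem_roots'.1 hr').2
      · simp only [Function.comp_apply, Polynomial.map_sub, map_X, map_C, eval_sub, eval_X, eval_C] at h
        exact (sub_eq_zero.1 h).symm
  have hconj : IsConjRoot k (j0 a) r' := by
    show minpoly k (j0 a) = minpoly k r'
    rw [minpoly.algHom_eq j0 j0.injective a]
    exact minpoly.eq_of_irreducible_of_monic (minpoly.irreducible haint) hr' (minpoly.monic haint)
  obtain ⟨σ, hσ⟩ := isConjRoot_iff_exists_algEquiv.1 hconj.symm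
  let ψ : L →ₐ[k] W.adicCompletion K := μW.comp (σ.toAlgHom.comp j)
  have hψ : ψ.comp (IsScalarTower.toAlgHom k K L) = IsScalarTower.toAlgHom k K (W.adicCompletion K) := by
    refine pa.algHom_ext ?_
    rw [hpa]
    show μW (σ (j0 a)) = _
    rw [hσ, hr'a]
    rfl
  exact ⟨{ ψ.toRingHom with commutes' := fun x => DFunLike.congr_fun hψ x }⟩

end Groth.Agent.NormValH28
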