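import Mathlib
import Groth.Agent.Lib.NormValH28.Residue
import Groth.Agent.Lib.StrongApproxH28.Approx

/-!
Units at an unramified place of a number field are arbitrarily close to norms.
-/

set_option autoImplicit false
set_option maxHeartbeats 1000000

open IsDedekindDomain NumberField Algebra
open WithZero (exp exp_zero exp_le_exp)
open scoped WithZero nonZeroDivisors

namespace Groth.Agent.NormValH28

universe u v

variable {K : Type u} [Field K] [NumberField K] {L : Type v} [Field L] [NumberField L] [Algebra K L]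

theorem isRadical_map_of_unramified (W : HeightOneSpectrum (𝓞 K))
    (hunr : ∀ Q : Ideal (𝓞 L), Q.IsPrime → Q ≠ ⊥ → Q.LiesOver W.asIdeal →
      Q.ramificationIdx (𝓞 K) = 1) : (W.asIdeal.map (algebraMap (𝓞 K) (𝓞 L))).IsRadical := by
  have hJ : W.asIdeal.map (algebraMap (𝓞 K) (𝓞 L)) ≠ ⊥ :=
    (Ideal.map_eq_bot_iff_of_injective (FaithfulSMul.algebraMap_injective _ _)).not.2 W.ne_bot
  have hsq : Squarefree (W.asIdeal.map (algebraMap (𝓞 K) (𝓞 L))) := by
    rw [squarefree_iff_no_irreducibles (by simpa using hJ)]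
    intro Q hQ hdvd
    have hQp : Prime Q := UniqueFactorizationMonoid.irreducible_iff_prime.1 hQ
    have : Q.IsPrime := Ideal.isPrime_of_prime hQp
    have hle2 : W.asIdeal.map (algebraMap (𝓞 K) (𝓞 L)) ≤ Q ^ 2 := Ideal.le_of_dvd (by rwa [pow_two])
    have hle : W.asIdeal.map (algebraMap (𝓞 K) (𝓞 L)) ≤ Q := hle2.trans (Ideal.pow_le_self two_ne_zero)
    have : Q.LiesOver W.asIdeal := ⟨W.isMaximal.eq_of_le (Ideal.IsPrime.under (𝓞 K) Q).ne_top
      (Ideal.map_le_iff_le_comap.1 hle)⟩
    have h1 := hunr Q inferInstance hQp.ne_zero inferInstance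
    rw [← Ideal.ramificationIdx'_eq_ramificationIdx' W.asIdeal Q hJ] at h1
    exact (Ideal.ramificationIdx'_ne_one_iff hle).2 hle2 h1
  intro x hx
  obtain ⟨n, hn⟩ := hx
  have h := hsq.isRadical n (Ideal.span {x})
    (by rw [Ideal.span_singleton_pow, Ideal.dvd_span_singleton]; exact hn)
  exact Ideal.dvd_span_singleton.1 h

theorem exists_norm_close (W : HeightOneSpectrum (𝓞 K))
    (hunr : ∀ Q : Ideal (𝓞 L), Q.IsPrime → Q ≠ ⊥ → Q.LiesOver W.asIdeal →
      Q.ramificationIdx (𝓞 K) = 1) (b : K) (hb : W.valuation K b = 1) (N : ℕ) :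
    ∃ X : L, W.valuation K (Algebra.norm K X - b) ≤ exp (-(N : ℤ)) := by
  let p := W.asIdeal
  have : p.IsMaximal := W.isMaximal
  let R := Localization.AtPrime p
  let S := Localization (Algebra.algebraMapSubmonoid (𝓞 L) p.primeCompl)
  let : Algebra R S := localizationAlgebra p.primeCompl (𝓞 L)
  have : IsScalarTower (𝓞 K) R S := IsScalarTower.of_algebraMap_eq'
    (by rw [RingHom.algebraMap_toAlgebra, IsLocalization.map_comp, ← IsScalarTower.algebraMap_eq])
  have : IsLocalization (Submonoid.map (algebraMap (𝓞 K) (𝓞 L)) (Ideal.primeCompl p)) S :=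
    inferInstanceAs (IsLocalization (Algebra.algebraMapSubmonoid (𝓞 L) p.primeCompl) S)
  have e : Algebra.algebraMapSubmonoid (𝓞 L) p.primeCompl ≤ (𝓞 L)⁰ :=
    Submonoid.map_le_of_le_comap _ <| p.primeCompl_le_nonZeroDivisors.trans
      (nonZeroDivisors_le_comap_nonZeroDivisors_of_injective _
        (FaithfulSMul.algebraMap_injective _ _))
  have : IsDomain S := IsLocalization.isDomain_of_le_nonZeroDivisors _ e
  have : Module.IsTorsionFree R S := by
    rw [Module.isTorsionFree_iff_algebraMap_injective, RingHom.injective_iff_ker_eq_bot,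
      RingHom.ker_eq_bot_iff_eq_zero]
    simp
  have : Module.Finite R S := .of_isLocalization (𝓞 K) (𝓞 L) p.primeCompl
  have : IsPrincipalIdealRing R := by
    have := (IsDedekindDomain.isDedekindDomainDvr (𝓞 K)).2 p W.ne_bot inferInstance
    infer_instance
  have : Module.Free R S := Module.free_of_finite_type_torsion_free'
  let eq1 := IsLocalization.AtPrime.equivQuotMaximalIdeal p R
  let eq2 := IsLocalization.AtPrime.equivQuotientMapMaximalIdeal (𝓞 L) p R S
  have : Finite (R ⧸ IsLocalRing.maximalIdeal R) := by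
    have : Finite (𝓞 K ⧸ p) := Ideal.finiteQuotientOfFreeOfNeBot p W.ne_bot
    exact Finite.of_equiv _ eq1.toEquiv
  have : IsReduced (𝓞 L ⧸ p.map (algebraMap (𝓞 K) (𝓞 L))) :=
    (Ideal.isRadical_iff_quotient_reduced _).1 (isRadical_map_of_unramified W hunr)
  have : IsReduced (S ⧸ Ideal.map (algebraMap R S) (IsLocalRing.maximalIdeal R)) :=
    isReduced_of_injective eq2.symm eq2.symm.injective
  have : Nontrivial (S ⧸ Ideal.map (algebraMap R S) (IsLocalRing.maximalIdeal R)) := by
    have : Nontrivial (𝓞 L ⧸ p.map (algebraMap (𝓞 K) (𝓞 L))) := Ideal.Quotient.nontrivial_iff.2 fun h => by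
      obtain ⟨Q, hQ, hQp⟩ := Ideal.exists_maximal_ideal_liesOver_of_isIntegral (S := 𝓞 L) p
      exact hQ.ne_top (top_le_iff.1 (h ▸ Ideal.map_le_of_le_comap hQp.over.le))
    exact eq2.symm.surjective.nontrivial
  obtain ⟨s, r, hrs⟩ := W.exists_primeCompl_mul_eq_of_integer (K := K) b hb.le
  have hsu : W.valuation K (algebraMap (𝓞 K) K r) = 1 := (W.valuation_eq_one_iff_notMem).2 r.2
  have hss : W.valuation K (algebraMap (𝓞 K) K s) = 1 := by rw [← hrs, map_mul, hsu, hb, one_mul]
  have hsp : s ∈ p.primeCompl := (W.valuation_eq_one_iff_notMem (K := K)).1 hss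
  have hu : IsUnit (IsLocalization.mk' R s r) :=
    (IsLocalization.AtPrime.isUnit_mk'_iff R p s r).2 hsp
  obtain ⟨X, hX⟩ := exists_norm_approx (S := S) (IsLocalization.mk' R s r) hu N
  -- compare with the fields
  let : Algebra R K := (IsLocalization.lift (M := p.primeCompl) (g := algebraMap (𝓞 K) K) fun y =>
    isUnit_iff_ne_zero.2 ((map_ne_zero_iff _ (IsFractionRing.injective (𝓞 K) K)).2
      (nonZeroDivisors.ne_zero (p.primeCompl_le_nonZeroDivisors y.2)))).toAlgebra
  let : Algebra S L := (IsLocalization.lift (M := Algebra.algebraMapSubmonoid (𝓞 L) p.primeCompl)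
    (g := algebraMap (𝓞 L) L) fun y =>
    isUnit_iff_ne_zero.2 ((map_ne_zero_iff _ (IsFractionRing.injective (𝓞 L) L)).2
      (nonZeroDivisors.ne_zero (e y.2)))).toAlgebra
  have : IsScalarTower (𝓞 K) R K := IsScalarTower.of_algebraMap_eq fun y => by
    rw [RingHom.algebraMap_toAlgebra, IsLocalization.lift_eq]
  have : IsScalarTower (𝓞 L) S L := IsScalarTower.of_algebraMap_eq fun y => by
    rw [RingHom.algebraMap_toAlgebra (R := S), IsLocalization.lift_eq]
  let : Algebra R L := ((algebraMap K L).comp (algebraMap R K)).toAlgebra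
  have : IsScalarTower R K L := IsScalarTower.of_algebraMap_eq fun y => rfl
  have : IsScalarTower R S L := IsScalarTower.of_algebraMap_eq' (by
    refine IsLocalization.ringHom_ext p.primeCompl (RingHom.ext fun y => ?_)
    simp only [RingHom.comp_apply, IsScalarTower.algebraMap_apply R K L, ← IsScalarTower.algebraMap_apply (𝓞 K) R K,
      ← IsScalarTower.algebraMap_apply (𝓞 K) R S, IsScalarTower.algebraMap_apply (𝓞 K) (𝓞 L) S,
      ← IsScalarTower.algebraMap_apply (𝓞 L) S L, ← IsScalarTower.algebraMap_apply (𝓞 K) K L,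
      ← IsScalarTower.algebraMap_apply (𝓞 K) (𝓞 L) L])
  have : IsFractionRing R K := IsFractionRing.isFractionRing_of_isDomain_of_isLocalization p.primeCompl R K
  have : IsFractionRing S L :=
    IsFractionRing.isFractionRing_of_isDomain_of_isLocalization
      (Algebra.algebraMapSubmonoid (𝓞 L) p.primeCompl) S L
  have : IsIntegrallyClosed S := isIntegrallyClosed_of_isLocalization S _ e
  have : IsIntegralClosure S R L := IsIntegralClosure.of_isIntegrallyClosed _ _ _
  have : IsLocalization (Algebra.algebraMapSubmonoid S R⁰) L :=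
    IsIntegralClosure.isLocalization R K L S
  have hnorm : Algebra.norm K (algebraMap S L X) = algebraMap R K (Algebra.norm R X) :=
    Algebra.norm_localization R R⁰ X
  refine ⟨algebraMap S L X, ?_⟩
  have hb' : b = algebraMap R K (IsLocalization.mk' R s r) := by
    have h1 := congrArg (algebraMap R K) (IsLocalization.mk'_spec R s r)
    rw [map_mul, ← IsScalarTower.algebraMap_apply, ← IsScalarTower.algebraMap_apply, ← hrs] at h1
    exact (mul_right_cancel₀ (fun h => by simp [h] at hsu) h1).symm
  rw [hnorm, hb', ← map_sub]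
  rw [← Localization.AtPrime.map_eq_maximalIdeal, ← Ideal.map_pow,
    IsLocalization.mem_map_algebraMap_iff p.primeCompl] at hX
  obtain ⟨⟨⟨a, ha⟩, c⟩, hc⟩ := hX
  have h2 := congrArg (fun z => W.valuation K (algebraMap R K z)) hc
  simp only [map_mul, ← IsScalarTower.algebraMap_apply (𝓞 K) R K] at h2
  rw [(W.valuation_eq_one_iff_notMem).2 c.2, mul_one] at h2
  rw [h2, W.valuation_of_algebraMap]
  exact (W.intValuation_le_pow_iff_mem a N).2 ha

end Groth.Agent.NormValH28
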