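import Mathlib
import Groth.Agent.Lib.NormValH28.Main
import Groth.Agent.Lib.NormValH28.UnitNorm
import Groth.Agent.Lib.NormValH28.Small
import Groth.Agent.Lib.NormValH28.BaseNorm
import Groth.Agent.Lib.NormValH28.Split

/-!
Locally split values of `t - aᵢ` when the degrees sum to two.
-/

set_option autoImplicit false
set_option maxHeartbeats 1000000

open IsDedekindDomain NumberField
open WithZero (exp exp_zero exp_le_exp exp_lt_exp exp_pos)
open scoped WithZero TensorProduct

namespace Groth.Agent.NormValH28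

universe u

section Aux

variable {k : Type u} [Field k] {L : Type u} [Field L] [Algebra k L] [FiniteDimensional k L]

theorem norm_one_tmul {F : Type*} [Field F] [Algebra k F] (X : L) :
    Algebra.norm F ((1 : F) ⊗ₜ[k] X) = algebraMap k F (Algebra.norm k X) := by
  rw [Algebra.norm_eq_matrix_det (Algebra.TensorProduct.basis F (Module.finBasis k L)),
    Algebra.norm_eq_matrix_det (Module.finBasis k L), RingHom.map_det]
  congr 1
  ext r s
  simp [Algebra.leftMulMatrix_eq_repr_mul, Algebra.TensorProduct.tmul_mul_tmul,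
    Algebra.TensorProduct.basis_repr_tmul, RingHom.mapMatrix_apply]

end Aux

variable {k : Type u} [Field k] [NumberField k]

local notation "Pl" => HeightOneSpectrum (RingOfIntegers k)

theorem isOpen_val_lt (v : Pl) (q : v.adicCompletion k) (M : ℕ) :
    IsOpen {z : v.adicCompletion k | Valued.v (z - q) < exp (-(M : ℤ))} := by
  obtain ⟨π, hπ⟩ := v.valuation_exists_uniformizer k
  have h : {z : v.adicCompletion k | Valued.v (z - q) < exp (-(M : ℤ))} =
      (fun z => (z - q) / algebraMap k (v.adicCompletion k) π ^ M) ⁻¹' {z | Valued.v (z - 0) < 1} := by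
    ext z
    simp only [Set.mem_ofPred_eq, Set.mem_preimage, sub_zero, map_div₀, map_pow,
      StrongApproxH28.valued_algebraMap, hπ, ← WithZero.exp_nsmul]
    rw [div_lt_iff₀ exp_pos, one_mul]
    simp
  rw [h]
  exact (isOpen_val_sub_lt_one v 0).preimage (by fun_prop)

theorem exists_exp_ball (v : Pl) {ι : Type*} [Finite ι] (U : Set (ι → v.adicCompletion k)) (hU : IsOpen U)
    (q : ι → k) (hq : (fun i => algebraMap k (v.adicCompletion k) (q i)) ∈ U) :
    ∃ N : ℕ, ∀ a : ι → k, (∀ i, v.valuation k (a i - q i) ≤ exp (-(N : ℤ))) →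
      (fun i => algebraMap k (v.adicCompletion k) (a i)) ∈ U := by
  classical
  have := Fintype.ofFinite ι
  obtain ⟨s, hs, hsU⟩ := isOpen_pi_iff'.1 hU _ hq
  have h : ∀ i, ∃ N : ℕ, ∀ z : v.adicCompletion k,
      Valued.v (z - algebraMap k _ (q i)) ≤ exp (-(N : ℤ)) → z ∈ s i := by
    intro i
    obtain ⟨γ, hγ⟩ := Valued.mem_nhds.1 ((hs i).1.mem_nhds (hs i).2)
    have hg0 : MonoidWithZeroHom.ValueGroup₀.embedding γ.1 ≠ 0 := (_root_.map_ne_zero _).2 γ.ne_zero
    refine ⟨(1 - WithZero.log (MonoidWithZeroHom.ValueGroup₀.embedding γ.1)).toNat, fun z hz => hγ ?_⟩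
    show _ < γ.1
    rw [← MonoidWithZeroHom.ValueGroup₀.embedding_strictMono.lt_iff_lt]
    refine lt_of_le_of_lt (le_trans (le_of_eq (by simp)) hz) (lt_of_lt_of_eq (exp_lt_exp.2 ?_) (WithZero.exp_log hg0))
    have := Int.self_le_toNat (1 - WithZero.log (MonoidWithZeroHom.ValueGroup₀.embedding γ.1))
    omega
  choose N hN using h
  refine ⟨Finset.univ.sup N, fun a ha => hsU fun i _ => hN i _ ?_⟩
  rw [← map_sub, StrongApproxH28.valued_algebraMap]
  refine (ha i).trans (exp_le_exp.2 ?_)
  have := Finset.le_sup (f := N) (Finset.mem_univ i)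
  omega

theorem eq_of_liesOver {K : Type*} [Field K] [NumberField K] [Algebra k K]
    (W : HeightOneSpectrum (RingOfIntegers K)) (v : Pl) (h : W.asIdeal.LiesOver v.asIdeal) :
    W.under (RingOfIntegers k) = v := HeightOneSpectrum.ext h.over.symm

section Data

variable {n : ℕ} {kf Lf : Fin n → Type u} [∀ i, Field (kf i)] [∀ i, NumberField (kf i)]
  [∀ i, Algebra k (kf i)] [∀ i, Field (Lf i)] [∀ i, NumberField (Lf i)] [∀ i, Algebra (kf i) (Lf i)]
  [∀ i, Algebra k (Lf i)] [∀ i, IsScalarTower k (kf i) (Lf i)]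

/-- The structure map `(u, w) ↦ (u - w aᵢ)ᵢ`. -/
noncomputable def psi (a : (i : Fin n) → kf i) : (Fin 2 → k) →ₗ[k] ((i : Fin n) → kf i) :=
  Fintype.linearCombination k ![fun _ => 1, fun i => -(a i)]

theorem psi_apply (a : (i : Fin n) → kf i) (p : Fin 2 → k) (i : Fin n) :
    psi (k := k) a p i = algebraMap k (kf i) (p 0) - algebraMap k (kf i) (p 1) * a i := by
  simp [psi, Fintype.linearCombination_apply, Algebra.smul_def, sub_eq_add_neg]

theorem psi_bijective (a : (i : Fin n) → kf i) (ha : ∀ i, IntermediateField.adjoin k {a i} = ⊤)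
    (hdist : ∀ i j, i ≠ j → minpoly k (a i) ≠ minpoly k (a j))
    (hdeg : ∑ i, Module.finrank k (kf i) = 2) : Function.Bijective (psi (k := k) a) := by
  have h : Module.finrank k (Fin 2 → k) = Module.finrank k ((i : Fin n) → kf i) := by
    rw [Module.finrank_fin_fun, Module.finrank_pi_fintype, hdeg]
  have hinj : Function.Injective (psi (k := k) a) := by
    refine (injective_iff_map_eq_zero _).2 fun p hp => ?_
    have hn : 0 < n := Nat.pos_of_ne_zero fun h0 => by subst h0; simp at hdeg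
    have h1 : ∀ i, algebraMap k (kf i) (p 1) * a i = algebraMap k (kf i) (p 0) := fun i => by
      have := congrFun hp i
      rw [psi_apply, Pi.zero_apply, sub_eq_zero] at this
      exact this.symm
    by_cases hw : p 1 = 0
    · have h0 : p 0 = 0 := by
        have := h1 ⟨0, hn⟩
        rw [hw, map_zero, zero_mul] at this
        exact (map_eq_zero _).1 this.symm
      funext j; fin_cases j <;> simp [hw, h0]
    exfalso
    have ha' : ∀ i, a i = algebraMap k (kf i) (p 0 / p 1) := fun i => by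
      rw [map_div₀, ← h1 i, mul_div_cancel_left₀]
      exact (_root_.map_ne_zero _).2 hw
    have hd : ∀ i, Module.finrank k (kf i) = 1 := fun i => by
      have htop := ha i
      rw [ha' i] at htop
      rw [← IntermediateField.bot_eq_top_iff_finrank_eq_one, ← htop, eq_comm,
        IntermediateField.adjoin_simple_eq_bot_iff]
      exact IntermediateField.algebraMap_mem _ _
    have hn2 : n = 2 := by simpa [hd] using hdeg
    subst hn2
    refine hdist 0 1 (by decide) ?_
    rw [ha' 0, ha' 1, minpoly.eq_X_sub_C, minpoly.eq_X_sub_C]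
  exact ⟨hinj, (LinearMap.injective_iff_surjective_of_finrank_eq_finrank h).1 hinj⟩

/-- Coordinates of a local value. -/
theorem sum_extFun {F : Type*} [Field F] [Algebra k F] (a b : (i : Fin n) → kf i)
    (Γ : ((i : Fin n) → kf i) →ₗ[k] (Fin 2 → k)) (hΓ : ∀ p, Γ (psi (k := k) a p) = p) (hb : ∀ i, b i ≠ 0) (t : F)
    (Λ : Fin 2 → (i : Fin n) → kf i →ₗ[k] k)
    (hΛ : ∀ x : (i : Fin n) → kf i, ∀ j, ∑ i, Λ j i (x i) = Γ (fun i => x i * (b i)⁻¹) j) :
    (fun j => ∑ i, extFun (Λ j i) ((1 : F) ⊗ₜ[k] b i * (t ⊗ₜ[k] (1 : kf i) - (1 : F) ⊗ₜ[k] a i))) =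
      ![t, 1] := by
  have h1 : Γ (fun _ => 1) = ![1, 0] := by
    rw [← hΓ ![1, 0]]; congr 1; funext i; simp [psi_apply]
  have h2 : Γ a = ![0, -1] := by
    rw [← hΓ ![0, -1]]; congr 1; funext i; simp [psi_apply]
  funext j
  simp only [mul_sub, Algebra.TensorProduct.tmul_mul_tmul, one_mul, mul_one, map_sub, extFun_tmul,
    Finset.sum_sub_distrib, ← Finset.sum_mul, ← map_sum]
  have hs1 : ∑ i, Λ j i (b i) = (![1, 0] : Fin 2 → k) j := by
    rw [hΛ b j, ← h1]; exact congrFun (congrArg Γ (funext fun i => mul_inv_cancel₀ (hb i))) j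
  have hs2 : ∑ i, Λ j i (b i * a i) = (![0, -1] : Fin 2 → k) j := by
    rw [hΛ (fun i => b i * a i) j, ← h2]
    exact congrFun (congrArg Γ (funext fun i : Fin n =>
      show b i * a i * (b i)⁻¹ = a i by rw [mul_comm, ← mul_assoc, inv_mul_cancel₀ (hb i), one_mul])) j
  rw [hs1, hs2]
  fin_cases j <;> simp

theorem exists_split_value (a : (i : Fin n) → kf i) (ha : ∀ i, IntermediateField.adjoin k {a i} = ⊤)
    (hdist : ∀ i j, i ≠ j → minpoly k (a i) ≠ minpoly k (a j))
    (hdeg : ∑ i, Module.finrank k (kf i) = 2)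
    (b : (i : Fin n) → kf i) (hb : ∀ i, b i ≠ 0) (Sf : Finset Pl) (Si : Finset (InfinitePlace k))
    (hSb : ∀ i, ∀ W : HeightOneSpectrum (RingOfIntegers (kf i)),
      W.valuation (kf i) (b i) ≠ 1 → ∃ v ∈ Sf, W.asIdeal.LiesOver v.asIdeal)
    (hSram : ∀ i, ∀ Q : Ideal (RingOfIntegers (Lf i)), Q.IsPrime → Q ≠ ⊥ →
      Q.ramificationIdx (RingOfIntegers (kf i)) ≠ 1 → ∃ v ∈ Sf, Q.LiesOver v.asIdeal)
    (tf : (v : Pl) → v.adicCompletion k) (ti : (w : InfinitePlace k) → w.Completion)
    (htf : ∀ i, ∀ v ∈ Sf,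
      letI := (Algebra.TensorProduct.map (AlgHom.id k (v.adicCompletion k))
        (IsScalarTower.toAlgHom k (kf i) (Lf i))).toRingHom.toAlgebra
      ∃ x : (v.adicCompletion k) ⊗[k] Lf i, IsUnit x ∧
        Algebra.norm ((v.adicCompletion k) ⊗[k] kf i) x =
          (1 : v.adicCompletion k) ⊗ₜ[k] b i * (tf v ⊗ₜ[k] (1 : kf i) - (1 : v.adicCompletion k) ⊗ₜ[k] a i))
    (hti : ∀ i, ∀ w ∈ Si,
      letI := (Algebra.TensorProduct.map (AlgHom.id k w.Completion)
        (IsScalarTower.toAlgHom k (kf i) (Lf i))).toRingHom.toAlgebra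
      ∃ x : w.Completion ⊗[k] Lf i, IsUnit x ∧
        Algebra.norm (w.Completion ⊗[k] kf i) x =
          (1 : w.Completion) ⊗ₜ[k] b i * (ti w ⊗ₜ[k] (1 : kf i) - (1 : w.Completion) ⊗ₜ[k] a i))
    (Uf : (v : Pl) → Set (v.adicCompletion k)) (hUf : ∀ v ∈ Sf, IsOpen (Uf v) ∧ tf v ∈ Uf v)
    (Ui : (w : InfinitePlace k) → Set w.Completion) (hUi : ∀ w ∈ Si, IsOpen (Ui w) ∧ ti w ∈ Ui w) :
    ∃ t₀ : k, (∀ v ∈ Sf, algebraMap k (v.adicCompletion k) t₀ ∈ Uf v) ∧
      (∀ w ∈ Si, algebraMap k w.Completion t₀ ∈ Ui w) ∧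
      ∀ i, ∀ W : HeightOneSpectrum (RingOfIntegers (kf i)),
        W.valuation (kf i) (algebraMap k (kf i) t₀ - a i) < 1 →
          (∃ v ∈ Sf, W.asIdeal.LiesOver v.asIdeal) ∨ Nonempty (Lf i →ₐ[kf i] W.adicCompletion (kf i)) := by
  classical
  have hfd : ∀ i, FiniteDimensional (kf i) (Lf i) := fun i =>
    Module.Finite.of_restrictScalars_finite ℚ (kf i) (Lf i)
  have hfdk : ∀ i, FiniteDimensional k (Lf i) := fun i => Module.Finite.trans (kf i) (Lf i)
  let e := LinearEquiv.ofBijective (psi (k := k) a) (psi_bijective a ha hdist hdeg)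
  let Γ : ((i : Fin n) → kf i) →ₗ[k] (Fin 2 → k) := e.symm.toLinearMap
  have hΓ : ∀ p, Γ (psi (k := k) a p) = p := e.symm_apply_apply
  let Λ : Fin 2 → (i : Fin n) → kf i →ₗ[k] k := fun j i =>
    (LinearMap.proj j) ∘ₗ Γ ∘ₗ (LinearMap.single k kf i) ∘ₗ LinearMap.mulLeft k (b i)⁻¹
  have hΛ : ∀ x : (i : Fin n) → kf i, ∀ j, ∑ i, Λ j i (x i) = Γ (fun i => x i * (b i)⁻¹) j := by
    intro x j
    conv_rhs => rw [← Finset.univ_sum_single (fun i => x i * (b i)⁻¹), map_sum, Finset.sum_apply]
    refine Finset.sum_congr rfl fun i _ => ?_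
    simp [Λ, mul_comm]
  choose B hB using fun i => integral_bad (Λ 1 i)
  let S' : Finset Pl := Sf ∪ Finset.univ.biUnion B
  -- a completely split place
  let Ω := AlgebraicClosure k
  let emb : (i : Fin n) → Lf i →ₐ[k] Ω := fun i => IsAlgClosed.lift
  let E : IntermediateField k Ω := ⨆ i, (emb i).fieldRange
  have : ∀ i, FiniteDimensional k (emb i).fieldRange := fun i =>
    (AlgEquiv.ofInjectiveField (emb i)).toLinearEquiv.finiteDimensional
  have : FiniteDimensional k E := IntermediateField.finiteDimensional_iSup_of_finite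
  let M : IntermediateField k Ω := IntermediateField.normalClosure k E Ω
  have hEM : ∀ i, Nonempty (Lf i →ₐ[k] M) := fun i =>
    ⟨(IntermediateField.inclusion (le_trans (le_iSup (fun i => (emb i).fieldRange) i)
      E.le_normalClosure)).comp (AlgEquiv.ofInjectiveField (emb i)).toAlgHom⟩
  obtain ⟨v₀, hv₀, hv₀'⟩ := exists_split.{u, u, u} M S'
  have hsplit : ∀ i, ∀ W : HeightOneSpectrum (RingOfIntegers (kf i)), W.under (RingOfIntegers k) = v₀ →
      Nonempty (Lf i →ₐ[kf i] W.adicCompletion (kf i)) := fun i => hv₀' (kf i) (Lf i) (hEM i)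
  have hW₀ : ∀ i, ∃ W : HeightOneSpectrum (RingOfIntegers (kf i)), W.under (RingOfIntegers k) = v₀ := by
    intro i
    obtain ⟨Q, hQ, hQv⟩ := Ideal.exists_maximal_ideal_liesOver_of_isIntegral
      (S := RingOfIntegers (kf i)) v₀.asIdeal
    exact ⟨⟨Q, hQ.isPrime, Ideal.ne_bot_of_liesOver_of_ne_bot v₀.ne_bot Q⟩,
      eq_of_liesOver _ _ hQv⟩
  choose W₀ hW₀ using hW₀
  -- targets at the finite places
  have hfin : ∀ v : Pl, ∃ (X : (i : Fin n) → Lf i) (N : ℕ), v ∈ Sf → ∀ x : (i : Fin n) → kf i,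
      (∀ i j, v.valuation k (Λ j i (x i) - Λ j i (Algebra.norm (kf i) (X i))) ≤ exp (-(N : ℤ))) →
        algebraMap k (v.adicCompletion k) (∑ i, Λ 1 i (x i)) ≠ 0 ∧
        algebraMap k (v.adicCompletion k) ((∑ i, Λ 0 i (x i)) / ∑ i, Λ 1 i (x i)) ∈ Uf v := by
    intro v
    by_cases hv : v ∈ Sf
    swap
    · exact ⟨fun _ => 0, 0, fun h => absurd h hv⟩
    let sumMap : (Fin n → Fin 2 → v.adicCompletion k) → (Fin 2 → v.adicCompletion k) := fun c j => ∑ i, c i j
    let U' : Set (Fin 2 → v.adicCompletion k) := {p | p 1 ≠ 0 ∧ p 0 / p 1 ∈ Uf v}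
    have hU' : IsOpen U' :=
      ((continuous_apply (0 : Fin 2)).continuousOn.div (continuous_apply (1 : Fin 2)).continuousOn
        fun p hp => hp).isOpen_inter_preimage (isOpen_compl_singleton.preimage (continuous_apply (1 : Fin 2)))
          (hUf v hv).1
    have hc : Continuous sumMap := by fun_prop
    choose x hx using fun i => htf i v hv
    let c : Fin n → Fin 2 → v.adicCompletion k := fun i j => extFun (Λ j i)
      ((1 : v.adicCompletion k) ⊗ₜ[k] b i * (tf v ⊗ₜ[k] (1 : kf i) - (1 : v.adicCompletion k) ⊗ₜ[k] a i))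
    have hcU : sumMap c ∈ U' := by
      show (fun j => ∑ i, c i j) ∈ U'
      rw [sum_extFun a b Γ hΓ hb (tf v) Λ hΛ]
      exact ⟨by simp, by simpa using (hUf v hv).2⟩
    obtain ⟨s, hs, hsU⟩ := isOpen_pi_iff'.1 (hU'.preimage hc) c hcU
    have hX : ∀ i, ∃ X : Lf i, (fun j => algebraMap k (v.adicCompletion k) (Λ j i (Algebra.norm (kf i) X))) ∈ s i :=
      fun i => exists_global_near (HeightOneSpectrum.denseRange_algebraMap k v) (fun j => Λ j i) (x i) (s i)
        (hs i).1 (by rw [(hx i).2]; exact (hs i).2)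
    choose X hX using hX
    choose N hN using fun i => exists_exp_ball v (s i) (hs i).1 _ (hX i)
    refine ⟨X, Finset.univ.sup N, fun _ y hy => ?_⟩
    have := hsU (fun i _ => hN i (fun j => Λ j i (y i)) fun j => (hy i j).trans
      (exp_le_exp.2 (by have := Finset.le_sup (f := N) (Finset.mem_univ i); omega)))
    obtain ⟨h1, h2⟩ := this
    simp only [sumMap, ← map_sum, ← map_div₀] at h1 h2
    exact ⟨h1, h2⟩
  choose Xf Nf hfin using hfin
  choose Mf hMf using fun (i : Fin n) (v : Pl) (j : Fin 2) => small_fin v (Λ j i) (if v ∈ Sf then Nf v else 0)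
  -- targets at the infinite places
  have hglob : ∃ X : (i : Fin n) → Lf i, ∑ i, Λ 1 i (Algebra.norm (kf i) (X i)) ≠ 0 := by
    let d : Fin n → ℕ := fun i => Module.finrank (kf i) (Lf i)
    let x : (i : Fin n) → kf i := fun i => -(a i * b i) / (d i : kf i)
    let p : Polynomial k := ∑ i, ∑ j ∈ Finset.range (d i + 1),
      Polynomial.C ((d i).choose j • Λ 1 i (x i ^ j)) * Polynomial.X ^ j
    have hp : p ≠ 0 := fun h => by
      have h1 := congrArg (fun q => Polynomial.coeff q 1) h
      simp only [p, Polynomial.finsetSum_coeff, Polynomial.coeff_C_mul, Polynomial.coeff_X_pow,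
        mul_ite, mul_one, mul_zero, Finset.sum_ite_eq, Polynomial.coeff_zero] at h1
      have h2 : ∀ i, (if 1 ∈ Finset.range (d i + 1) then (d i).choose 1 • Λ 1 i (x i ^ 1) else 0) =
          Λ 1 i (-(a i * b i)) := fun i => by
        have hd : 0 < d i := Module.finrank_pos
        rw [if_pos (Finset.mem_range.2 (by omega)), Nat.choose_one_right, pow_one, ← map_nsmul, nsmul_eq_mul]
        congr 1
        simp only [x]
        rw [mul_div_cancel₀]
        exact_mod_cast hd.ne'
      rw [Finset.sum_congr rfl fun i _ => h2 i, hΛ] at h1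
      have h3 : Γ (fun i => -(a i * b i) * (b i)⁻¹) = ![0, 1] := by
        rw [← hΓ ![0, 1]]; congr 1; funext i
        simp [psi_apply, mul_assoc, hb i]
      rw [h3] at h1
      simp at h1
    obtain ⟨ε, hε⟩ : ∃ ε : k, p.eval ε ≠ 0 := by
      by_contra hh
      push Not at hh
      exact hp (Polynomial.funext fun r => by simp [hh r])
    refine ⟨fun i => algebraMap (kf i) (Lf i) (1 + ε • x i), fun h => hε ?_⟩
    rw [← h, Polynomial.eval_finsetSum]
    refine Finset.sum_congr rfl fun i _ => ?_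
    rw [Algebra.norm_algebraMap, add_comm (1 : kf i), add_pow, map_sum, Polynomial.eval_finsetSum]
    refine Finset.sum_congr rfl fun j _ => ?_
    rw [Polynomial.eval_C_mul, Polynomial.eval_X_pow, one_pow, mul_one, smul_pow,
      mul_comm _ ((d i).choose j : kf i), ← nsmul_eq_mul, map_nsmul, map_smul, nsmul_eq_mul, nsmul_eq_mul,
      smul_eq_mul]
    ring
  obtain ⟨X₁, hX₁⟩ := hglob
  have hinf : ∀ w : InfinitePlace k, ∃ (X : (i : Fin n) → Lf i) (ε : ℝ), 0 < ε ∧ ∀ x : (i : Fin n) → kf i,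
      (∀ i j, w (Λ j i (x i) - Λ j i (Algebra.norm (kf i) (X i))) < ε) →
        algebraMap k w.Completion (∑ i, Λ 1 i (x i)) ≠ 0 ∧
        (w ∈ Si → algebraMap k w.Completion ((∑ i, Λ 0 i (x i)) / ∑ i, Λ 1 i (x i)) ∈ Ui w) := by
    intro w
    let sumMap : (Fin n → Fin 2 → w.Completion) → (Fin 2 → w.Completion) := fun c j => ∑ i, c i j
    have hc : Continuous sumMap := by fun_prop
    obtain ⟨U', hU', X, hX, hgood⟩ : ∃ U' : Set (Fin n → Fin 2 → w.Completion), IsOpen U' ∧
        ∃ X : (i : Fin n) → Lf i,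
          (fun i j => algebraMap k w.Completion (Λ j i (Algebra.norm (kf i) (X i)))) ∈ U' ∧
          ∀ c ∈ U', sumMap c 1 ≠ 0 ∧ (w ∈ Si → sumMap c 0 / sumMap c 1 ∈ Ui w) := by
      by_cases hw : w ∈ Si
      · let U₀ : Set (Fin 2 → w.Completion) := {p | p 1 ≠ 0 ∧ p 0 / p 1 ∈ Ui w}
        have hU₀ : IsOpen U₀ :=
          ((continuous_apply (0 : Fin 2)).continuousOn.div (continuous_apply (1 : Fin 2)).continuousOn
            fun p hp => hp).isOpen_inter_preimage (isOpen_compl_singleton.preimage (continuous_apply (1 : Fin 2)))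
              (hUi w hw).1
        choose x hx using fun i => hti i w hw
        let c : Fin n → Fin 2 → w.Completion := fun i j => extFun (Λ j i)
          ((1 : w.Completion) ⊗ₜ[k] b i * (ti w ⊗ₜ[k] (1 : kf i) - (1 : w.Completion) ⊗ₜ[k] a i))
        have hcU : sumMap c ∈ U₀ := by
          show (fun j => ∑ i, c i j) ∈ U₀
          rw [sum_extFun a b Γ hΓ hb (ti w) Λ hΛ]
          exact ⟨by simp, by simpa using (hUi w hw).2⟩
        obtain ⟨s, hs, hsU⟩ := isOpen_pi_iff'.1 (hU₀.preimage hc) c hcU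
        have hd : DenseRange (algebraMap k w.Completion) := by
          intro z
          refine mem_closure_iff.2 fun o ho hz => ?_
          obtain ⟨T, hT⟩ := (InfiniteAdeleRing.denseRange_algebraMap k).exists_mem_open
            (s := (fun f : (v : InfinitePlace k) → v.Completion => f w) ⁻¹' o)
            (ho.preimage (continuous_apply w)) ⟨Function.update (fun v => (0 : v.Completion)) w z, by simpa using hz⟩
          exact ⟨_, hT, T, rfl⟩
        have hX : ∀ i, ∃ X : Lf i, (fun j => algebraMap k w.Completion (Λ j i (Algebra.norm (kf i) X))) ∈ s i :=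
          fun i => exists_global_near hd (fun j => Λ j i) (x i) (s i) (hs i).1 (by rw [(hx i).2]; exact (hs i).2)
        choose X hX using hX
        exact ⟨Set.univ.pi s, isOpen_set_pi Set.finite_univ fun i _ => (hs i).1, X, fun i _ => hX i,
          fun c hc' => ⟨(hsU hc').1, fun _ => (hsU hc').2⟩⟩
      · refine ⟨sumMap ⁻¹' {p | p 1 ≠ 0}, (isOpen_compl_singleton.preimage (continuous_apply (1 : Fin 2))).preimage hc,
          X₁, ?_, fun c hc' => ⟨hc', fun h => absurd h hw⟩⟩
        show ∑ i, algebraMap k w.Completion _ ≠ 0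
        rw [← map_sum]
        exact (_root_.map_ne_zero _).2 hX₁
    obtain ⟨ε, hε, hball⟩ := Metric.isOpen_iff.1 hU' _ hX
    refine ⟨X, ε, hε, fun x hx => ?_⟩
    have := hgood (fun i j => algebraMap k w.Completion (Λ j i (x i))) (hball (by
      rw [Metric.mem_ball, dist_pi_lt_iff hε]
      intro i
      rw [dist_pi_lt_iff hε]
      intro j
      rw [dist_eq_norm, ← map_sub]
      exact lt_of_eq_of_lt (InfinitePlace.Completion.norm_coe w _) (hx i j)))
    obtain ⟨h1, h2⟩ := this
    simp only [sumMap, ← map_sum, ← map_div₀] at h1 h2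
    exact ⟨h1, h2⟩
  choose Xi εi hεi hinf using hinf
  choose δ hδ0 hδ using fun (i : Fin n) (w : InfinitePlace k) (j : Fin 2) => small_inf w (Λ j i) (εi w) (hεi w)
  -- the fields `kf i`
  have key : ∀ i, ∃ x : kf i, x ≠ 0 ∧
      (∀ W : HeightOneSpectrum (RingOfIntegers (kf i)), W.under (RingOfIntegers k) ∈ Sf → ∀ j,
        W.valuation (kf i) (x - Algebra.norm (kf i) (Xf (W.under (RingOfIntegers k)) i)) ≤
          exp (-(Mf i (W.under (RingOfIntegers k)) j : ℤ))) ∧
      (∀ W : HeightOneSpectrum (RingOfIntegers (kf i)), W.under (RingOfIntegers k) ∈ S' →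
        W.under (RingOfIntegers k) ∉ Sf → W.valuation (kf i) x = 1 ∧ ∀ j,
        W.valuation (kf i) (x - b i) ≤ exp (-(Mf i (W.under (RingOfIntegers k)) j : ℤ))) ∧
      (∀ (W : InfinitePlace (kf i)) (j : Fin 2),
        W (x - Algebra.norm (kf i) (Xi (W.comap (algebraMap k (kf i))) i)) < δ i (W.comap (algebraMap k (kf i))) j) ∧
      ∀ W : HeightOneSpectrum (RingOfIntegers (kf i)), W.under (RingOfIntegers k) ∉ S' →
        W.under (RingOfIntegers k) ≠ v₀ →
        W.valuation (kf i) x ≤ 1 ∧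
          (W.valuation (kf i) x = 1 ∨ Nonempty (Lf i →ₐ[kf i] W.adicCompletion (kf i))) := by
    intro i
    let T : Finset (HeightOneSpectrum (RingOfIntegers (kf i))) :=
      S'.biUnion fun v => (finite_above (K := kf i) v).toFinset
    have hT : ∀ W, W ∈ T ↔ W.under (RingOfIntegers k) ∈ S' := fun W => by simp [T]
    let m : HeightOneSpectrum (RingOfIntegers (kf i)) → ℕ := fun W =>
      Mf i (W.under (RingOfIntegers k)) 0 + Mf i (W.under (RingOfIntegers k)) 1 + 1
    let cen : HeightOneSpectrum (RingOfIntegers (kf i)) → kf i := fun W =>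
      if W.under (RingOfIntegers k) ∈ Sf then Algebra.norm (kf i) (Xf (W.under (RingOfIntegers k)) i) else b i
    have hnorm : ∀ W ∈ T, ∃ X : Lf i, W.valuation (kf i) (Algebra.norm (kf i) X - cen W) < exp (-(m W : ℤ)) := by
      intro W hW
      by_cases hS : W.under (RingOfIntegers k) ∈ Sf
      · exact ⟨Xf (W.under (RingOfIntegers k)) i, by simp [cen, if_pos hS]⟩
      · have hbW : W.valuation (kf i) (b i) = 1 := by
          by_contra hne
          obtain ⟨v, hv, hWv⟩ := hSb i W hne
          exact hS (eq_of_liesOver W v hWv ▸ hv)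
        have hunr : ∀ Q : Ideal (RingOfIntegers (Lf i)), Q.IsPrime → Q ≠ ⊥ → Q.LiesOver W.asIdeal →
            Q.ramificationIdx (RingOfIntegers (kf i)) = 1 := by
          intro Q hQ hQ0 hQW
          by_contra hne
          obtain ⟨v, hv, hQv⟩ := hSram i Q hQ hQ0 hne
          refine hS ?_
          have : W.asIdeal.LiesOver (W.under (RingOfIntegers k)).asIdeal := Ideal.over_under _
          have h' : Q.LiesOver (W.under (RingOfIntegers k)).asIdeal := .trans Q W.asIdeal _
          have : W.under (RingOfIntegers k) = v := HeightOneSpectrum.ext (h'.over.trans hQv.over.symm)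
          exact this ▸ hv
        obtain ⟨X, hX⟩ := exists_norm_close W hunr (b i) hbW (m W + 1)
        refine ⟨X, ?_⟩
        simp only [cen, if_neg hS]
        exact hX.trans_lt (exp_lt_exp.2 (by omega))
    obtain ⟨x, hx0, hx1, hx2, hx3, hx4⟩ := exists_integral (L := Lf i) T Finset.univ
      (fun W => {z | Valued.v (z - algebraMap (kf i) (W.adicCompletion (kf i)) (cen W)) < exp (-(m W : ℤ))})
      (fun W hW => ⟨isOpen_val_lt W _ _, by
        obtain ⟨X, hX⟩ := hnorm W hW
        refine ⟨1 ⊗ₜ X, ?_⟩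
        rw [Set.mem_ofPred_eq, norm_one_tmul, ← map_sub, StrongApproxH28.valued_algebraMap]
        exact hX⟩)
      (fun W => Metric.ball (algebraMap (kf i) W.Completion
          (Algebra.norm (kf i) (Xi (W.comap (algebraMap k (kf i))) i)))
        (min (δ i (W.comap (algebraMap k (kf i))) 0) (δ i (W.comap (algebraMap k (kf i))) 1)))
      (fun W _ => ⟨Metric.isOpen_ball, 1 ⊗ₜ Xi (W.comap (algebraMap k (kf i))) i, by
        rw [norm_one_tmul]; exact Metric.mem_ball_self (lt_min (hδ0 _ _ _) (hδ0 _ _ _))⟩)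
      (W₀ i) (fun h => hv₀ (hW₀ i ▸ (hT _).1 h)) (hsplit i _ (hW₀ i))
    have hcl : ∀ W ∈ T, W.valuation (kf i) (x - cen W) < exp (-(m W : ℤ)) := fun W hW => by
      have := hx1 W hW
      rwa [Set.mem_ofPred_eq, ← map_sub, StrongApproxH28.valued_algebraMap] at this
    refine ⟨x, hx0, fun W hW j => ?_, fun W hW hW' => ?_, fun W j => ?_, fun W hW hW' => ?_⟩
    · have := hcl W ((hT W).2 (Finset.mem_union_left _ hW))
      simp only [cen, if_pos hW] at this
      refine this.le.trans (exp_le_exp.2 ?_)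
      fin_cases j <;> simp [m] <;> omega
    · have := hcl W ((hT W).2 hW)
      simp only [cen, if_neg hW'] at this
      refine ⟨?_, fun j => this.le.trans (exp_le_exp.2 ?_)⟩
      · have hbW : W.valuation (kf i) (b i) = 1 := by
          by_contra hne
          obtain ⟨v, hv, hWv⟩ := hSb i W hne
          exact hW' (eq_of_liesOver W v hWv ▸ hv)
        have hlt : exp (-(m W : ℤ)) ≤ (1 : ℤᵐ⁰) := by rw [← exp_zero, exp_le_exp]; omega
        rw [← sub_add_cancel x (b i), Valuation.map_add_eq_of_lt_right _ (by rw [hbW]; exact this.trans_le hlt), hbW]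
      · fin_cases j <;> simp [m] <;> omega
    · have h := hx2 W (Finset.mem_univ W)
      rw [Metric.mem_ball, dist_eq_norm, ← map_sub] at h
      have h' := lt_of_eq_of_lt (InfinitePlace.Completion.norm_coe W _).symm h
      fin_cases j
      · exact h'.trans_le (min_le_left _ _)
      · exact h'.trans_le (min_le_right _ _)
    · have hT' : W ∉ T := fun h => hW ((hT W).1 h)
      exact ⟨hx3 W hT' fun h => hW' (h ▸ hW₀ i), hx4 W hT'⟩
  choose x hx0 hxS hxS' hxI hxout using key
  let u := ∑ i, Λ 0 i (x i)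
  let w := ∑ i, Λ 1 i (x i)
  have hpl : ∀ p : InfinitePlace k, algebraMap k p.Completion w ≠ 0 ∧
      (p ∈ Si → algebraMap k p.Completion (u / w) ∈ Ui p) := fun p => hinf p x fun i j => by
    rw [← map_sub]
    refine hδ i p j _ fun W hW => ?_
    have := hxI i W j
    rwa [hW] at this
  have hw0 : w ≠ 0 := fun h => (hpl (Classical.arbitrary _)).1 (by rw [h, map_zero])
  refine ⟨u / w, fun v hv => (hfin v hv x fun i j => ?_).2, fun p hp => (hpl p).2 hp, fun i W hW => ?_⟩
  · rw [← map_sub]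
    have := hMf i v j (x i - Algebra.norm (kf i) (Xf v i)) fun W hW => by
      have := hxS i W (hW ▸ hv) j
      rwa [hW] at this
    rwa [if_pos hv] at this
  set v := W.under (RingOfIntegers k) with hvdef
  have : W.asIdeal.LiesOver v.asIdeal := Ideal.over_under _
  by_cases hvS : v ∈ Sf
  · exact Or.inl ⟨v, hvS, inferInstance⟩
  right
  by_cases hv0 : v = v₀
  · exact hsplit i W hv0
  -- `z = u - w a`
  have hz : algebraMap k (kf i) u - algebraMap k (kf i) w * a i = x i * (b i)⁻¹ := by
    have h1 : psi (k := k) a ![u, w] = fun i => x i * (b i)⁻¹ := by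
      have h2 : (![u, w] : Fin 2 → k) = Γ (fun i => x i * (b i)⁻¹) := by
        funext j
        fin_cases j
        · exact hΛ x 0
        · exact hΛ x 1
      rw [h2]
      exact e.apply_symm_apply _
    have := congrFun h1 i
    rwa [psi_apply] at this
  have hbW : W.valuation (kf i) (b i) = 1 := by
    by_contra hne
    obtain ⟨v', hv', hWv⟩ := hSb i W hne
    exact hvS (by rw [hvdef, eq_of_liesOver W v' hWv]; exact hv')
  have hwK : algebraMap k (kf i) w ≠ 0 := (_root_.map_ne_zero _).2 hw0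
  have hdiff : W.valuation (kf i) (algebraMap k (kf i) (u / w) - a i) * W.valuation (kf i) (algebraMap k (kf i) w) =
      W.valuation (kf i) (x i) := by
    rw [← map_mul, sub_mul, map_div₀, div_mul_cancel₀ _ hwK, mul_comm (a i), hz, map_mul, map_inv₀, hbW, inv_one,
      mul_one]
  have hwv : v.valuation k w ≤ 1 → W.valuation (kf i) (x i) < 1 := fun h => by
    rw [← hdiff]
    refine (mul_le_of_le_one_right' ?_).trans_lt hW
    rw [← HeightOneSpectrum.valuation_liesOver (kf i) v W]
    exact pow_le_one₀ zero_le h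
  by_cases hv' : v ∈ S'
  · exfalso
    have hone : ∑ i, Λ 1 i (b i) = 0 := by
      rw [hΛ b 1, show (fun i => b i * (b i)⁻¹) = psi (k := k) a ![1, 0] from funext fun i => by simp [psi_apply, hb i], hΓ]
      rfl
    have hle : v.valuation k w ≤ 1 := by
      have hw' : w = ∑ i, Λ 1 i (x i - b i) := by
        simp only [map_sub, Finset.sum_sub_distrib, hone, sub_zero]; rfl
      rw [hw']
      refine Valuation.map_sum_le _ fun i' _ => ?_
      have := hMf i' v 1 (x i' - b i') fun W' hW' => by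
        have := (hxS' i' W' (hW' ▸ hv') (hW' ▸ hvS)).2 1
        rwa [hW'] at this
      rwa [if_neg hvS, Nat.cast_zero, neg_zero, exp_zero] at this
    have := hwv hle
    rw [(hxS' i W hv' hvS).1] at this
    exact lt_irrefl _ this
  · have hle : v.valuation k w ≤ 1 := Valuation.map_sum_le _ fun i' _ =>
      hB i' v (fun h => hv' (Finset.mem_union_right _ (Finset.mem_biUnion.2 ⟨i', Finset.mem_univ _, h⟩))) _
        fun W' hW' => (hxout i' W' (hW' ▸ hv') (hW' ▸ hv0)).1
    exact (hxout i W hv' hv0).2.resolve_left (hwv hle).ne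

end Data

end Groth.Agent.NormValH28
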