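import Mathlib
import Groth.Agent.Lib.NormValH28.UnitNorm
import Groth.Agent.Lib.NormValH28.BaseNorm
import Groth.Agent.Lib.NormValH28.Small
import Groth.Agent.Lib.NormValH28.Degree2

/-!
Units at unramified places are norms from the completed algebra.
-/

set_option autoImplicit false
set_option maxHeartbeats 1000000

open IsDedekindDomain NumberField
open WithZero (exp exp_zero exp_le_exp exp_lt_exp exp_pos)
open scoped WithZero TensorProduct Valued Topology

namespace Groth.Agent.NormValH28

universe u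

/-- In a finite commutative algebra over a complete field the elements close to `1` are `n`-th
powers of units. -/
theorem exists_root_near_one {F A : Type*} [NontriviallyNormedField F] [CompleteSpace F] [CommRing A]
    [Algebra F A] [FiniteDimensional F A] {ι : Type*} [Fintype ι] (b : Module.Basis ι F A)
    (n : ℕ) (hn : (n : F) ≠ 0) :
    ∃ δ : ℝ, 0 < δ ∧ ∀ r : A, (∀ i, ‖b.repr (r - 1) i‖ < δ) → ∃ c : A, IsUnit c ∧ c ^ n = r := by
  classical
  letI : NormedRing (Matrix ι ι F) := Matrix.linftyOpNormedRing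
  letI : NormedAlgebra F (Matrix ι ι F) := Matrix.linftyOpNormedAlgebra
  let φ := Algebra.leftMulMatrix b
  have hφ : Function.Injective φ := Algebra.leftMulMatrix_injective b
  letI : NormedCommRing A := NormedCommRing.induced A (Matrix ι ι F) φ hφ
  letI : NormedAlgebra F A := NormedAlgebra.induced F A (Matrix ι ι F) φ
  have : CompleteSpace A := FiniteDimensional.complete F A
  let e : A ≃L[F] A := ContinuousLinearEquiv.smulLeft (Units.mk0 (n : F) hn)
  have hd : HasStrictFDerivAt (fun x : A => x ^ n) (e : A →L[F] A) 1 := by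
    refine (hasStrictFDerivAt_pow (𝕜 := F) n (x := (1 : A))).congr_fderiv ?_
    ext y
    simp [e, ContinuousLinearEquiv.smulLeft, Units.smul_def, Nat.cast_smul_eq_nsmul]
  have hmap := hd.map_nhds_eq_of_equiv
  simp only [one_pow] at hmap
  have hu : ∀ᶠ c in 𝓝 (1 : A), IsUnit c := Units.isOpen.mem_nhds isUnit_one
  have himg : (fun x : A => x ^ n) '' {c | IsUnit c} ∈ 𝓝 (1 : A) := hmap ▸ Filter.image_mem_map hu
  obtain ⟨ρ, hρ, hball⟩ := Metric.mem_nhds_iff.1 himg
  refine ⟨ρ / (∑ i, ‖b i‖ + 1), by positivity, fun r hr => ?_⟩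
  have hr' : r ∈ Metric.ball (1 : A) ρ := by
    rw [Metric.mem_ball, dist_eq_norm, ← b.sum_repr (r - 1)]
    refine (norm_sum_le _ _).trans_lt (lt_of_le_of_lt (b := (ρ / (∑ i, ‖b i‖ + 1)) * ∑ i, ‖b i‖) ?_ ?_)
    · rw [Finset.mul_sum]
      refine Finset.sum_le_sum fun i _ => (norm_smul_le _ _).trans ?_
      exact mul_le_mul_of_nonneg_right (hr i).le (norm_nonneg _)
    · rw [div_mul_eq_mul_div, div_lt_iff₀ (by positivity)]
      have : 0 ≤ ∑ i, ‖b i‖ := Finset.sum_nonneg fun i _ => norm_nonneg _
      nlinarith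
  obtain ⟨c, hc, hcr⟩ := hball hr'
  exact ⟨c, hc, hcr⟩

variable {k : Type u} [Field k] [NumberField k] {K L : Type u} [Field K] [NumberField K] [Algebra k K]
  [Field L] [NumberField L] [Algebra k L] [Algebra K L] [IsScalarTower k K L]

theorem exists_norm_eq_unit (v : HeightOneSpectrum (RingOfIntegers k))
    (hunr : ∀ Q : Ideal (RingOfIntegers L), Q.IsPrime → Q ≠ ⊥ → Q.LiesOver v.asIdeal →
      Q.ramificationIdx (RingOfIntegers K) = 1)
    (u : K) (hu : ∀ W : HeightOneSpectrum (RingOfIntegers K), W.under (RingOfIntegers k) = v →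
      W.valuation K u = 1) :
    letI := (Algebra.TensorProduct.map (AlgHom.id k (v.adicCompletion k))
      (IsScalarTower.toAlgHom k K L)).toRingHom.toAlgebra
    ∃ x : (v.adicCompletion k) ⊗[k] L, IsUnit x ∧
      Algebra.norm ((v.adicCompletion k) ⊗[k] K) x = (1 : v.adicCompletion k) ⊗ₜ[k] u := by
  classical
  letI := (Algebra.TensorProduct.map (AlgHom.id k (v.adicCompletion k))
    (IsScalarTower.toAlgHom k K L)).toRingHom.toAlgebra
  have hfd : FiniteDimensional K L := Module.Finite.of_restrictScalars_finite ℚ K L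
  have : FiniteDimensional k L := Module.Finite.trans K L
  obtain ⟨bF, hbF⟩ := exists_basis_baseChange (k := k) (K := K) (L := L) (F := v.adicCompletion k)
  have : CharZero (v.adicCompletion k) := charZero_of_injective_algebraMap (algebraMap k _).injective
  obtain ⟨δ, hδ, hroot⟩ := exists_root_near_one
    (Algebra.TensorProduct.basis (v.adicCompletion k) (Module.finBasis k K)) (Module.finrank K L)
    (Nat.cast_ne_zero.2 Module.finrank_pos.ne')
  obtain ⟨N₀, hN⟩ := exists_exp_ball v (ι := Unit) ((fun p => p ()) ⁻¹' Metric.ball 0 δ)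
    (Metric.isOpen_ball.preimage (continuous_apply ())) (fun _ => 0) (by simpa using hδ)
  choose M hM using fun j => small_fin v ((Module.finBasis k K).coord j) N₀
  let m := Finset.univ.sup M
  -- a global element with norm close to `u`
  let T := (finite_above (K := K) v).toFinset
  have hT : ∀ W, W ∈ T ↔ W.under (RingOfIntegers k) = v := fun W => by simp [T]
  obtain ⟨X, -, hX, -⟩ := exists_generator (L := L) T
    (fun W => {z | Valued.v (z - algebraMap K (W.adicCompletion K) u) < exp (-((m + 1 : ℕ) : ℤ))})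
    (fun W hW => ⟨isOpen_val_lt W _ _, by
      obtain ⟨X, hX⟩ := exists_norm_close W (fun Q hQ hQ0 hQW => hunr Q hQ hQ0 (by
        have : W.asIdeal.LiesOver v.asIdeal := ⟨(congrArg HeightOneSpectrum.asIdeal ((hT W).1 hW)).symm⟩
        exact .trans Q W.asIdeal _)) u (hu W ((hT W).1 hW)) (m + 2)
      refine ⟨1 ⊗ₜ X, ?_⟩
      rw [Set.mem_ofPred_eq, norm_one_tmul, ← map_sub, StrongApproxH28.valued_algebraMap]
      exact hX.trans_lt (exp_lt_exp.2 (by omega))⟩)
    (fun _ => Set.univ) (fun _ => ⟨isOpen_univ, 1, trivial⟩)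
  have hclose : ∀ W : HeightOneSpectrum (RingOfIntegers K), W.under (RingOfIntegers k) = v →
      W.valuation K (Algebra.norm K X - u) < exp (-((m + 1 : ℕ) : ℤ)) := fun W hW => by
    have := hX W ((hT W).2 hW)
    rwa [Set.mem_ofPred_eq, ← map_sub, StrongApproxH28.valued_algebraMap] at this
  have hunit : ∀ W : HeightOneSpectrum (RingOfIntegers K), W.under (RingOfIntegers k) = v →
      W.valuation K (Algebra.norm K X) = 1 := fun W hW => by
    rw [← sub_add_cancel (Algebra.norm K X) u, Valuation.map_add_eq_of_lt_right _ (by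
      rw [hu W hW]; exact (hclose W hW).trans_le (by rw [← exp_zero, exp_le_exp]; omega)), hu W hW]
  obtain ⟨W₁, hW₁⟩ : ∃ W : HeightOneSpectrum (RingOfIntegers K), W.under (RingOfIntegers k) = v := by
    obtain ⟨Q, hQ, hQv⟩ := Ideal.exists_maximal_ideal_liesOver_of_isIntegral
      (S := RingOfIntegers K) v.asIdeal
    exact ⟨⟨Q, hQ.isPrime, Ideal.ne_bot_of_liesOver_of_ne_bot v.ne_bot Q⟩, eq_of_liesOver _ _ hQv⟩
  have hN0 : Algebra.norm K X ≠ 0 := fun h => by have := hunit W₁ hW₁; simp [h] at this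
  have hX0 : X ≠ 0 := fun h => hN0 (Algebra.norm_eq_zero_iff.2 h)
  obtain ⟨c, hcu, hc⟩ := hroot ((1 : v.adicCompletion k) ⊗ₜ[k] (u / Algebra.norm K X)) fun j => by
    rw [Algebra.TensorProduct.one_def, ← TensorProduct.tmul_sub, Algebra.TensorProduct.basis_repr_tmul]
    have h1 : v.valuation k ((Module.finBasis k K).coord j (u / Algebra.norm K X - 1)) ≤ exp (-(N₀ : ℤ)) := by
      refine hM j _ fun W hW => ?_
      rw [div_sub_one hN0, map_div₀, hunit W hW, div_one, Valuation.map_sub_swap]
      refine (hclose W hW).le.trans (exp_le_exp.2 ?_)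
      have := Finset.le_sup (f := M) (Finset.mem_univ j)
      omega
    have h2 := hN (fun _ => _) (fun _ => by rwa [sub_zero])
    simpa [Metric.mem_ball, dist_eq_norm] using h2
  refine ⟨((1 : v.adicCompletion k) ⊗ₜ[k] X) * algebraMap _ _ c, ?_, ?_⟩
  · exact ((IsUnit.map (Algebra.TensorProduct.includeRight : L →ₐ[k] (v.adicCompletion k) ⊗[k] L) hX0.isUnit)).mul
      (hcu.map _)
  · rw [map_mul, hbF, Algebra.norm_algebraMap_of_basis bF, Fintype.card_fin, hc,
      Algebra.TensorProduct.tmul_mul_tmul, one_mul, mul_div_cancel₀ _ hN0]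

end Groth.Agent.NormValH28
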