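import Mathlib
import Groth.Agent.Lib.NormValH28.NormExact

/-!
Linear changes of coordinate for norm conditions.
-/

set_option autoImplicit false

open IsDedekindDomain NumberField
open WithZero (exp exp_zero exp_le_exp exp_lt_exp exp_pos)
open scoped WithZero TensorProduct

namespace Groth.Agent.NormValH28

universe u

/-- The identity behind the change of coordinate, in any commutative ring. -/
theorem moebius_key {R : Type*} [CommRing R] (α β γ δ a a' t t' b b' i : R)
    (ha' : a' * (γ * a + δ) = α * a + β) (ht' : t' * (γ * t + δ) = α * t + β)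
    (hb' : b' = b * (γ * a + δ)) (hi : i * (γ * t + δ) = 1) :
    b' * (t' - a') = b * (t - a) * ((α * δ - β * γ) * i) := by
  subst hb'
  linear_combination (-b) * ha' + b * (γ * a + δ) * i * ht' - b * (t' * (γ * a + δ) - α * a - β) * hi

theorem moebius_norm {k : Type u} [Field k] {K L : Type u} [Field K] [Algebra k K] [Field L] [Algebra k L]
    [Algebra K L] [IsScalarTower k K L] {F : Type u} [Field F] [Algebra k F] (α β γ δ : k)
    (a b a' b' : K) (t t' : F) (hia : algebraMap k K γ * a + algebraMap k K δ ≠ 0)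
    (hit : algebraMap k F γ * t + algebraMap k F δ ≠ 0)
    (ha' : a' = (algebraMap k K α * a + algebraMap k K β) / (algebraMap k K γ * a + algebraMap k K δ))
    (hb' : b' = b * (algebraMap k K γ * a + algebraMap k K δ))
    (ht' : t' = (algebraMap k F α * t + algebraMap k F β) / (algebraMap k F γ * t + algebraMap k F δ))
    (hx : letI := (Algebra.TensorProduct.map (AlgHom.id k F) (IsScalarTower.toAlgHom k K L)).toRingHom.toAlgebra
      ∃ x : F ⊗[k] L, IsUnit x ∧ Algebra.norm (F ⊗[k] K) x = (1 : F) ⊗ₜ[k] b * (t ⊗ₜ[k] (1 : K) - (1 : F) ⊗ₜ[k] a))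
    (hy : letI := (Algebra.TensorProduct.map (AlgHom.id k F) (IsScalarTower.toAlgHom k K L)).toRingHom.toAlgebra
      ∃ y : F ⊗[k] L, IsUnit y ∧ Algebra.norm (F ⊗[k] K) y =
        (algebraMap k F (α * δ - β * γ) / (algebraMap k F γ * t + algebraMap k F δ)) ⊗ₜ[k] (1 : K)) :
    letI := (Algebra.TensorProduct.map (AlgHom.id k F) (IsScalarTower.toAlgHom k K L)).toRingHom.toAlgebra
    ∃ x : F ⊗[k] L, IsUnit x ∧ Algebra.norm (F ⊗[k] K) x = (1 : F) ⊗ₜ[k] b' * (t' ⊗ₜ[k] (1 : K) - (1 : F) ⊗ₜ[k] a') := by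
  letI := (Algebra.TensorProduct.map (AlgHom.id k F) (IsScalarTower.toAlgHom k K L)).toRingHom.toAlgebra
  obtain ⟨x, hxu, hx⟩ := hx
  obtain ⟨y, hyu, hy⟩ := hy
  refine ⟨x * y, hxu.mul hyu, ?_⟩
  let f : F →+* F ⊗[k] K := Algebra.TensorProduct.includeLeftRingHom
  let g : K →+* F ⊗[k] K := (Algebra.TensorProduct.includeRight : K →ₐ[k] F ⊗[k] K).toRingHom
  have hc : ∀ c : k, g (algebraMap k K c) = f (algebraMap k F c) := fun c =>
    ((Algebra.TensorProduct.includeRight : K →ₐ[k] F ⊗[k] K).commutes c).trans rfl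
  have hf : ∀ z : F, z ⊗ₜ[k] (1 : K) = f z := fun z => rfl
  have hg : ∀ z : K, (1 : F) ⊗ₜ[k] z = g z := fun z => rfl
  rw [map_mul, hx, hy]
  simp only [hf, hg]
  rw [map_sub (algebraMap k F), map_mul (algebraMap k F), map_mul (algebraMap k F), div_eq_mul_inv,
    map_mul f, map_sub f, map_mul f, map_mul f]
  refine (moebius_key (f (algebraMap k F α)) (f (algebraMap k F β)) (f (algebraMap k F γ))
    (f (algebraMap k F δ)) (g a) (g a') (f t) (f t') (g b) (g b') _ ?_ ?_ ?_ ?_).symm
  · rw [← hc, ← hc, ← hc, ← hc, ← map_mul g, ← map_add g, ← map_mul g, ← map_mul g, ← map_add g, ha',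
      div_mul_cancel₀ _ hia]
  · rw [← map_mul f, ← map_add f, ← map_mul f, ← map_mul f, ← map_add f, ht', div_mul_cancel₀ _ hit]
  · rw [← hc, ← hc, ← map_mul g, ← map_add g, ← map_mul g, hb']
  · rw [← map_mul f, ← map_add f, ← map_mul f, inv_mul_cancel₀ hit, map_one]

/-- A neighbourhood for the inverse substitution. -/
theorem moebius_nhds {k F : Type*} [Field k] [Field F] [TopologicalSpace F] [T1Space F] [IsTopologicalRing F]
    [ContinuousInv₀ F] (φ : k →+* F) (α β γ δ : k) (hdet : α * δ - β * γ ≠ 0) (t t' : F)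
    (hit : φ γ * t + φ δ ≠ 0) (ht' : t' = (φ α * t + φ β) / (φ γ * t + φ δ)) (U : Set F) (hU : IsOpen U)
    (htU : t ∈ U) :
    ∃ U' : Set F, IsOpen U' ∧ t' ∈ U' ∧
      ∀ t₀' : k, α ≠ γ * t₀' → φ t₀' ∈ U' → φ ((δ * t₀' - β) / (α - γ * t₀')) ∈ U := by
  refine ⟨{z | φ α - φ γ * z ≠ 0 ∧ (φ δ * z - φ β) / (φ α - φ γ * z) ∈ U}, ?_, ?_, fun t₀' hne h => ?_⟩
  · refine (ContinuousOn.div (by fun_prop) (by fun_prop) fun z hz => hz).isOpen_inter_preimage ?_ hU
    exact isOpen_compl_singleton.preimage (by fun_prop : Continuous fun z => φ α - φ γ * z)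
  · have hd : φ α * φ δ - φ β * φ γ ≠ 0 := by
      rw [← map_mul, ← map_mul, ← map_sub]; exact (map_ne_zero φ).2 hdet
    have h0 : t' * (φ γ * t + φ δ) = φ α * t + φ β := by rw [ht', div_mul_cancel₀ _ hit]
    have h1 : (φ α - φ γ * t') * (φ γ * t + φ δ) = φ α * φ δ - φ β * φ γ := by
      linear_combination (-(φ γ)) * h0
    have hne : φ α - φ γ * t' ≠ 0 := fun h => hd (by rw [← h1, h, zero_mul])
    refine ⟨hne, ?_⟩
    convert htU
    rw [div_eq_iff hne]
    linear_combination h0
  · simp only [map_div₀, map_sub, map_mul]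
    exact h.2

variable {k : Type u} [Field k] [NumberField k] {K : Type u} [Field K] [NumberField K] [Algebra k K]

theorem moebius_small (v : HeightOneSpectrum (RingOfIntegers k)) (x : K) (γ : k) :
    ∃ U : Set (v.adicCompletion k), IsOpen U ∧ (0 : v.adicCompletion k) ∈ U ∧ ∀ t : k,
      algebraMap k (v.adicCompletion k) t ∈ U → ∀ W : HeightOneSpectrum (RingOfIntegers K),
        W.under (RingOfIntegers k) = v →
          W.valuation K (x * algebraMap k K t) < 1 ∧ v.valuation k (γ * t) < 1 := by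
  classical
  have hW : ∀ W : HeightOneSpectrum (RingOfIntegers K), ∃ N : ℕ, W.valuation K x * exp (-(N : ℤ)) < 1 := by
    intro W
    by_cases hd : W.valuation K x = 0
    · exact ⟨0, by simp [hd]⟩
    · refine ⟨(WithZero.log (W.valuation K x) + 1).toNat, ?_⟩
      conv_lhs => arg 1; rw [← WithZero.exp_log hd]
      rw [← WithZero.exp_add, ← exp_zero, exp_lt_exp]
      omega
  choose N hN using hW
  obtain ⟨G, hG⟩ : ∃ G : ℕ, v.valuation k γ * exp (-(G : ℤ)) < 1 := by
    by_cases hd : v.valuation k γ = 0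
    · exact ⟨0, by simp [hd]⟩
    · refine ⟨(WithZero.log (v.valuation k γ) + 1).toNat, ?_⟩
      conv_lhs => arg 1; rw [← WithZero.exp_log hd]
      rw [← WithZero.exp_add, ← exp_zero, exp_lt_exp]
      omega
  let M := (finite_above (K := K) v).toFinset.sup N + G
  refine ⟨{z | Valued.v (z - 0) < exp (-(M : ℤ))}, isOpen_val_lt v 0 M, by simp [exp_pos], fun t ht W hWv => ?_⟩
  simp only [Set.mem_ofPred_eq, sub_zero, StrongApproxH28.valued_algebraMap] at ht
  have hM : N W ≤ M := by
    have := Finset.le_sup (f := N) ((finite_above (K := K) v).mem_toFinset.2 hWv)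
    omega
  have : W.asIdeal.LiesOver v.asIdeal := ⟨(congrArg HeightOneSpectrum.asIdeal hWv).symm⟩
  refine ⟨?_, ?_⟩
  · rw [map_mul, ← HeightOneSpectrum.valuation_liesOver K v W]
    refine lt_of_le_of_lt (mul_le_mul_right ?_ _) (hN W)
    refine le_trans (pow_le_of_le_one zero_le ?_ (Ideal.IsDedekindDomain.ramificationIdx'_ne_zero_of_liesOver _ v.ne_bot)) ?_
    · exact ht.le.trans (by rw [← exp_zero, exp_le_exp]; omega)
    · exact ht.le.trans (exp_le_exp.2 (by omega))
  · rw [map_mul]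
    exact lt_of_le_of_lt (mul_le_mul_right (ht.le.trans (exp_le_exp.2 (by omega))) _) hG

end Groth.Agent.NormValH28
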